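import Mathlib.RingTheory.Artinian.Module
import Mathlib.RingTheory.Flat.Basic
import Mathlib.RingTheory.Nakayama
import Mathlib.RingTheory.HopkinsLevitzki
import Mathlib.RingTheory.Nilpotent.Basic
import Mathlib.RingTheory.Derivation.Basic
import Mathlib.LinearAlgebra.TensorProduct.RightExactness
import Mathlib.RingTheory.LocalRing.MaximalIdeal.Basic
import Mathlib.RingTheory.Finiteness.Ideal
import Mathlib.LinearAlgebra.TensorProduct.Quotient

/-!
Algebra of infinitesimal automorphisms of flat algebras over Artinian local rings.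
-/

set_option autoImplicit false
set_option linter.style.haveILetI false
universe u

open TensorProduct IsLocalRing

namespace Groth.Agent.DefSm85

variable {A : Type u} [CommRing A] [IsLocalRing A]

/-- Every nonzero ideal has a colength one step. -/
theorem exists_step [IsNoetherianRing A] {J : Ideal A} (hJ : J ≠ ⊥) :
    ∃ (J' : Ideal A) (t : A), J' < J ∧ t ∉ J' ∧ J' ⊔ Ideal.span {t} = J ∧ ∀ a ∈ maximalIdeal A, a * t ∈ J' := by
  obtain ⟨J', hJ', hmax⟩ := set_has_maximal_iff_noetherian.2 ‹IsNoetherianRing A› {I | I < J}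
    ⟨⊥, bot_lt_iff_ne_bot.2 hJ⟩
  obtain ⟨t, htJ, htJ'⟩ := SetLike.exists_of_lt (show J' < J from hJ')
  have hsup : ∀ K ≤ J, J' < J' ⊔ K → J' ⊔ K = J := fun K hK hlt =>
    (lt_or_eq_of_le (sup_le hJ'.le hK)).resolve_left fun h => hmax _ h hlt
  refine ⟨J', t, hJ', htJ', hsup _ ((Ideal.span_singleton_le_iff_mem _).2 htJ)
    (left_lt_sup.2 fun h => htJ' ((Ideal.span_singleton_le_iff_mem _).1 h)), fun a ha => ?_⟩
  by_contra hat
  have h1 : J' ⊔ maximalIdeal A • J = J := hsup _ Submodule.smul_le_right
    (left_lt_sup.2 fun h => hat (h (Submodule.smul_mem_smul ha htJ)))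
  exact hJ'.not_ge (Submodule.le_of_le_smul_of_le_jacobson_bot (IsNoetherian.noetherian J)
    (maximalIdeal_le_jacobson _) h1.ge)

variable {B : Type u} [CommRing B] [Algebra A B]

/-- In a flat algebra the annihilator of a socle element modulo an ideal is the extended maximal ideal. -/
theorem mem_of_mul_mem [Module.Flat A B] {J : Ideal A} {t : A} (ht : t ∉ J) (hmt : ∀ a ∈ maximalIdeal A, a * t ∈ J)
    {b : B} (hb : algebraMap A B t * b ∈ J.map (algebraMap A B)) : b ∈ (maximalIdeal A).map (algebraMap A B) := by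
  let μ : (A ⧸ maximalIdeal A) →ₗ[A] A ⧸ J :=
    Submodule.mapQ _ _ (LinearMap.mul A A t) fun a ha => by
      show t * a ∈ J
      rw [mul_comm]
      exact hmt a ha
  have hμ : Function.Injective μ := by
    rw [← LinearMap.ker_eq_bot, Submodule.eq_bot_iff]
    intro z hz
    obtain ⟨a, rfl⟩ := Submodule.Quotient.mk_surjective _ z
    rw [Submodule.Quotient.mk_eq_zero]
    by_contra ha
    have hta : t * a ∈ J := (Submodule.Quotient.mk_eq_zero _).1 hz
    exact ht ((Ideal.mul_unit_mem_iff_mem J (IsLocalRing.notMem_maximalIdeal.1 ha)).1 hta)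
  have hinj := Module.Flat.lTensor_preserves_injective_linearMap (M := B) μ hμ
  let e := fun I : Ideal A => tensorQuotEquivQuotSMul B I
  have key : e J (LinearMap.lTensor B μ ((e (maximalIdeal A)).symm (Submodule.Quotient.mk b))) = 0 := by
    rw [show (e (maximalIdeal A)).symm (Submodule.Quotient.mk b) = b ⊗ₜ Ideal.Quotient.mk _ 1 from
      tensorQuotEquivQuotSMul_symm_mk _ b, LinearMap.lTensor_tmul,
      show μ (Ideal.Quotient.mk _ 1) = Ideal.Quotient.mk J t from congrArg (Ideal.Quotient.mk J) (mul_one t)]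
    show tensorQuotEquivQuotSMul B J (b ⊗ₜ Ideal.Quotient.mk J t) = 0
    rw [tensorQuotEquivQuotSMul_tmul_mk, Submodule.Quotient.mk_eq_zero, Ideal.smul_top_eq_map]
    show t • b ∈ J.map (algebraMap A B)
    rw [Algebra.smul_def]
    exact hb
  have h2 := (e (maximalIdeal A)).symm.injective ((hinj (((e J).map_eq_zero_iff.1 key).trans
    (map_zero (LinearMap.lTensor B μ)).symm)).trans (map_zero (e (maximalIdeal A)).symm).symm)
  rw [Submodule.Quotient.mk_eq_zero, Ideal.smul_top_eq_map] at h2
  exact h2

variable {B₀ : Type u} [CommRing B₀] (red : B →+* B₀) (hsurj : Function.Surjective red)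
  (hker : RingHom.ker red = (maximalIdeal A).map (algebraMap A B))
  {J : Ideal A} {t : A}

/-- `d` is the derivation of `φ` in the step `J ≤ J + (t)`. -/
def IsDer (φ : B →+* B) (J : Ideal A) (t : A) (d : B₀ → B₀) : Prop :=
  ∀ b c, red c = d (red b) → φ b - b - algebraMap A B t * c ∈ J.map (algebraMap A B)

variable (φ : B →+* B) (hA : ∀ a, φ (algebraMap A B a) = algebraMap A B a)
  (hφ : ∀ b, φ b - b ∈ (J ⊔ Ideal.span {t}).map (algebraMap A B))
  (ht : t ∉ J) (hmt : ∀ a ∈ maximalIdeal A, a * t ∈ J)

include hmt in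
theorem mul_mem_of_mem {c : B} (hc : c ∈ (maximalIdeal A).map (algebraMap A B)) :
    algebraMap A B t * c ∈ J.map (algebraMap A B) := by
  have hle : (maximalIdeal A).map (algebraMap A B) ≤ (J.map (algebraMap A B)).colon {algebraMap A B t} := by
    rw [Ideal.map_le_iff_le_comap]
    intro a ha
    rw [Ideal.mem_comap, Submodule.mem_colon_singleton, smul_eq_mul, ← map_mul]
    exact Ideal.mem_map_of_mem _ (hmt a ha)
  have := Submodule.mem_colon_singleton.1 (hle hc)
  rwa [smul_eq_mul, mul_comm] at this

include hφ in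
theorem exists_coeff (b : B) : ∃ c, φ b - b - algebraMap A B t * c ∈ J.map (algebraMap A B) := by
  have h := hφ b
  rw [Ideal.map_sup, Ideal.map_span, Set.image_singleton] at h
  obtain ⟨y, hy, z, hz, hyz⟩ := Submodule.mem_sup.1 h
  obtain ⟨c, rfl⟩ := Ideal.mem_span_singleton'.1 hz
  refine ⟨c, ?_⟩
  rw [← hyz, mul_comm c]
  simpa using hy

include hA hφ hmt in
theorem sub_mem_of_mem {b : B} (hb : b ∈ (maximalIdeal A).map (algebraMap A B)) :
    φ b - b ∈ J.map (algebraMap A B) := by
  induction hb using Submodule.span_induction with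
  | mem z hz =>
    obtain ⟨a, ha, rfl⟩ := hz
    simp [hA]
  | zero => simp
  | add z w _ _ hz hw =>
    rw [map_add, show φ z + φ w - (z + w) = φ z - z + (φ w - w) by ring]
    exact add_mem hz hw
  | smul r z hz0 hz =>
    obtain ⟨c, hc⟩ := exists_coeff φ hφ r
    rw [smul_eq_mul, map_mul, show φ r * φ z - r * z =
      φ r * (φ z - z) + (φ r - r - algebraMap A B t * c) * z + c * (algebraMap A B t * z) by ring]
    exact add_mem (add_mem (Ideal.mul_mem_left _ _ hz) (Ideal.mul_mem_right _ _ hc))
      (Ideal.mul_mem_left _ _ (mul_mem_of_mem hmt hz0))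

include hsurj hker hA hφ ht hmt in
theorem exists_isDer [Module.Flat A B] (htm : t ∈ maximalIdeal A) :
    ∃ d : B₀ → B₀, IsDer red φ J t d ∧ (∀ z w, d (z + w) = d z + d w) ∧
      (∀ z w, d (z * w) = z * d w + w * d z) ∧ ∀ a, d (red (algebraMap A B a)) = 0 := by
  choose c hc using exists_coeff φ hφ
  have huniq : ∀ b b' c', red b = red b' → φ b' - b' - algebraMap A B t * c' ∈ J.map (algebraMap A B) →
      red (c b) = red c' := fun b b' c' hbb hc' => by
    have hm : b - b' ∈ (maximalIdeal A).map (algebraMap A B) := by rw [← hker, RingHom.mem_ker, map_sub, hbb, sub_self]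
    rw [← sub_eq_zero, ← map_sub, ← RingHom.mem_ker, hker]
    refine mem_of_mul_mem ht hmt ?_
    rw [show algebraMap A B t * (c b - c') = (φ b' - b' - algebraMap A B t * c') - (φ b - b - algebraMap A B t * c b) +
      (φ (b - b') - (b - b')) by rw [map_sub]; ring]
    exact add_mem (sub_mem hc' (hc b)) (sub_mem_of_mem φ hA hφ hmt hm)
  let l := Function.surjInv hsurj
  let d : B₀ → B₀ := fun z => red (c (l z))
  have hd : ∀ b c', φ b - b - algebraMap A B t * c' ∈ J.map (algebraMap A B) → d (red b) = red c' := fun b c' hc' =>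
    huniq _ b c' (Function.surjInv_eq hsurj _) hc'
  refine ⟨d, fun b c' hc' => ?_, fun z w => ?_, fun z w => ?_, fun a => ?_⟩
  · have h1 : c' - c b ∈ (maximalIdeal A).map (algebraMap A B) := by
      rw [← hker, RingHom.mem_ker, map_sub, hc', hd b _ (hc b), sub_self]
    rw [show φ b - b - algebraMap A B t * c' = φ b - b - algebraMap A B t * c b - algebraMap A B t * (c' - c b) by ring]
    exact sub_mem (hc b) (mul_mem_of_mem hmt h1)
  · obtain ⟨b, rfl⟩ := hsurj z
    obtain ⟨b', rfl⟩ := hsurj w
    rw [hd b _ (hc b), hd b' _ (hc b'), ← map_add, ← map_add, hd (b + b') (c b + c b')]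
    rw [map_add φ, show φ b + φ b' - (b + b') - algebraMap A B t * (c b + c b') =
      (φ b - b - algebraMap A B t * c b) + (φ b' - b' - algebraMap A B t * c b') by ring]
    exact add_mem (hc b) (hc b')
  · obtain ⟨b, rfl⟩ := hsurj z
    obtain ⟨b', rfl⟩ := hsurj w
    rw [hd b _ (hc b), hd b' _ (hc b'), ← map_mul red b b', hd (b * b') (φ b * c b' + b' * c b), map_add, map_mul,
      map_mul, show red (φ b) = red b by
        rw [← sub_eq_zero, ← map_sub, ← RingHom.mem_ker, hker]
        refine Ideal.map_mono (sup_le (fun a ha => ?_) ?_) (hφ b)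
        · exact IsLocalRing.le_maximalIdeal (show J ≠ ⊤ from fun h => ht (h.symm ▸ Submodule.mem_top)) ha
        · exact (Ideal.span_singleton_le_iff_mem _).2 htm]
    rw [map_mul φ, show φ b * φ b' - b * b' - algebraMap A B t * (φ b * c b' + b' * c b) =
      φ b * (φ b' - b' - algebraMap A B t * c b') + b' * (φ b - b - algebraMap A B t * c b) by ring]
    exact add_mem (Ideal.mul_mem_left _ _ (hc b')) (Ideal.mul_mem_left _ _ (hc b))
  · rw [hd _ 0 (by simp [hA]), map_zero]

omit [Algebra A B] in
/-- An endomorphism congruent to the identity modulo the maximal ideal is bijective. -/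
theorem bijective_of_congr [IsArtinianRing A] [Algebra A B] (φ : B →+* B)
    (hA : ∀ a, φ (algebraMap A B a) = algebraMap A B a)
    (hφ : ∀ b, φ b - b ∈ (maximalIdeal A).map (algebraMap A B)) : Function.Bijective φ := by
  let δ : B →ₗ[A] B :=
    { toFun := fun b => φ b - b
      map_add' := fun b c => by rw [map_add]; ring
      map_smul' := fun a b => by
        simp only [Algebra.smul_def, map_mul, hA, RingHom.id_apply]
        ring }
  let m := maximalIdeal A
  have h1 : ∀ (n : ℕ) (b : B), (δ ^ n) b ∈ (m ^ n • ⊤ : Submodule A B) := fun n => by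
    induction n with
    | zero => intro b; rw [pow_zero, Ideal.one_eq_top, Submodule.top_smul]; exact Submodule.mem_top
    | succ n ih =>
      intro b
      rw [show (δ ^ (n + 1)) b = δ ((δ ^ n) b) by rw [pow_succ', Module.End.mul_apply]]
      refine Submodule.smul_induction_on (ih b) (fun a ha c _ => ?_) fun c d hc hd => ?_
      · rw [map_smul, pow_succ, Submodule.mul_smul]
        refine Submodule.smul_mem_smul ha ?_
        rw [Ideal.smul_top_eq_map]
        exact hφ c
      · rw [map_add]
        exact add_mem hc hd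
  obtain ⟨n, hn⟩ : IsNilpotent m := by
    show IsNilpotent (maximalIdeal A)
    rw [← jacobson_eq_maximalIdeal (⊥ : Ideal A) bot_ne_top]
    exact IsArtinianRing.isNilpotent_jacobson_bot
  have hnil : IsNilpotent δ := ⟨n, LinearMap.ext fun b => by
    have := h1 n b
    rwa [hn, Ideal.zero_eq_bot, Submodule.bot_smul, Submodule.mem_bot] at this⟩
  have hb := (Module.End.isUnit_iff _).1 (IsNilpotent.isUnit_one_add (r := δ) hnil)
  convert hb using 1
  funext b
  show φ b = b + (φ b - b)
  ring

end Groth.Agent.DefSm85
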