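import Groth.Agent.DefSm85.Der
import Groth.Agent.Rib52.AffineHom

/-!
Infinitesimal automorphisms and derivations.
-/

set_option autoImplicit false
set_option linter.style.haveILetI false
set_option backward.isDefEq.respectTransparency false
universe u

open CategoryTheory CategoryTheory.Limits AlgebraicGeometry TopologicalSpace Opposite
open ArtFun ArtFun.Art

noncomputable section

namespace Groth.Agent.DefSm85

variable {k : Type u} [Field k] {X : Scheme.{u}} {x : X ⟶ specPt k}

theorem IsDer.eq {A B B₀ : Type u} [CommRing A] [IsLocalRing A] [CommRing B] [Algebra A B] [Module.Flat A B]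
    [CommRing B₀] {red : B →+* B₀} (hsurj : Function.Surjective red)
    (hker : RingHom.ker red = (IsLocalRing.maximalIdeal A).map (algebraMap A B)) {φ : B →+* B} {J : Ideal A} {t : A}
    {d : B₀ → B₀} (hd : IsDer red φ J t d) (ht : t ∉ J) (hmt : ∀ a ∈ IsLocalRing.maximalIdeal A, a * t ∈ J)
    {b c : B} (h : φ b - b - algebraMap A B t * c ∈ J.map (algebraMap A B)) : d (red b) = red c := by
  obtain ⟨c', hc'⟩ := hsurj (d (red b))
  rw [← hc', ← sub_eq_zero, ← map_sub, ← RingHom.mem_ker, hker]
  refine mem_of_mul_mem ht hmt ?_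
  rw [show algebraMap A B t * (c' - c) = (φ b - b - algebraMap A B t * c) - (φ b - b - algebraMap A B t * c') by ring]
  exact sub_mem h (hd b c' hc')

/-- Morphisms with the same maps of sections agree on an affine open. -/
theorem ι_comp_eq {S T : Scheme.{u}} {f g : S ⟶ T} {V : T.Opens} (hV : IsAffineOpen V) {W : S.Opens}
    (hW : IsAffineOpen W) (ef : W ≤ f ⁻¹ᵁ V) (eg : W ≤ g ⁻¹ᵁ V) (h : f.appLE V W ef = g.appLE V W eg) :
    W.ι ≫ f = W.ι ≫ g := by
  rw [← cancel_epi hW.isoSpec.inv, ← Category.assoc, ← Category.assoc, hW.isoSpec_inv_ι,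
    ← hV.SpecMap_appLE_fromSpec f hW ef, ← hV.SpecMap_appLE_fromSpec g hW eg, h]

variable {A : Art k k} (ξ : DefSch X x A)

theorem scal_eq_red (U : X.affineOpens) (c : k) :
    scal x U.1 c = red ξ U (algebraMap A.carrier (sect ξ U) (algebraMap k A.carrier c)) := by
  rw [red_algebraMap]
  exact congrArg _ (A.res.commutes c).symm

variable (φ : ξ.total ⟶ ξ.total) (hf : φ ≫ ξ.f = ξ.f) (hi : ξ.i ≫ φ = ξ.i)

include hf hi in
/-- Without derivations an endomorphism of a deformation is the identity. -/
theorem eq_id_of_derFam (h0 : ∀ (D : DerFam x ⊤) (U : X.affineOpens) (s : Γ(X, U.1)), D.app U le_top s = 0) :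
    φ = 𝟙 ξ.total := by
  have key : ∀ J : Ideal A.carrier,
      (∀ U b, endoC ξ φ hi U b - b ∈ J.map (algebraMap A.carrier (sect ξ U))) → J ≤ IsLocalRing.maximalIdeal A.carrier →
      ∀ U b, endoC ξ φ hi U b = b := by
    intro J
    induction J using WellFoundedLT.induction with
    | ind J ih =>
      intro hJ hJm U b
      by_cases hbot : J = ⊥
      · subst hbot
        exact sub_eq_zero.1 (by simpa using hJ U b)
      obtain ⟨J', t, hlt, ht, hsup, hmt⟩ := exists_step hbot
      have htm : t ∈ IsLocalRing.maximalIdeal A.carrier :=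
        hJm (hsup.le (Ideal.mem_sup_right (Ideal.mem_span_singleton_self t)))
      choose d hd hadd hmul hbase using fun V => exists_isDer (red ξ V) (red_surjective ξ V) (ker_red ξ V)
        (endoC ξ φ hi V) (endoC_algebraMap ξ φ hf hi V) (fun b => by rw [hsup]; exact hJ V b) ht hmt htm
      have heq := fun (V : X.affineOpens) {b c : sect ξ V} (h : _) =>
        (hd V).eq (red_surjective ξ V) (ker_red ξ V) ht hmt (b := b) (c := c) h
      let D : DerFam x ⊤ :=
        { app := fun V _ => d V
          add := fun V _ => hadd V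
          mul := fun V _ => hmul V
          scal_eq := fun V _ c => by rw [scal_eq_red ξ]; exact hbase V _
          res_eq := fun {V W} _ h a => by
            obtain ⟨b, rfl⟩ := red_surjective ξ V a
            obtain ⟨c, hc⟩ := red_surjective ξ V (d V (red ξ V b))
            rw [← hc, ← red_resC ξ h, ← red_resC ξ h]
            refine heq W ?_
            have h1 := Ideal.mem_map_of_mem (resC ξ h) (hd V b c hc)
            rw [Ideal.map_map, show (resC ξ h).comp (algebraMap A.carrier (sect ξ V)) = algebraMap A.carrier (sect ξ W)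
              from RingHom.ext (resC_algebraMap ξ h)] at h1
            simpa [resC_endoC, resC_algebraMap] using h1 }
      refine ih J' hlt (fun V b => ?_) (hlt.le.trans hJm) U b
      simpa using hd V b 0 (by rw [map_zero]; exact (h0 D V _).symm)
  exact eq_id_of_endoC ξ φ hi (key _ (endoC_sub_mem ξ φ hi) le_rfl)

section Twist

/-- The trivial first order deformation. -/
abbrev triv (x : X ⟶ specPt k) [Flat x] : DefSch X x (dual k k) := DefSch.trivial X x inferInstance (dual k k)

/-- The projection to the closed fibre. -/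
abbrev proj (x : X ⟶ specPt k) [Flat x] : (triv x).total ⟶ X := pullback.fst x (specMap (ofBase (dual k k)))

variable [Flat x] (D : DerFam x ⊤)

theorem i_proj : (triv x).i ≫ proj x = 𝟙 X := DefSch.baseChange_i_fst _ _

theorem le_preimage_proj (W : (triv x).total.Opens) : W ≤ proj x ⁻¹ᵁ ((triv x).i ⁻¹ᵁ W) := fun p hp => by
  obtain ⟨q, rfl⟩ := (triv x).i.surjective p
  show (triv x).i ((proj x) ((triv x).i q)) ∈ W
  rw [← Scheme.Hom.comp_apply (triv x).i (proj x), i_proj]
  exact hp

/-- The affine open of the closed fibre under an affine open of the trivial deformation. -/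
def down (W : (triv x).total.affineOpens) : X.affineOpens :=
  ⟨(triv x).i ⁻¹ᵁ W.1, W.2.preimage (triv x).i⟩

/-- Pulling back functions. -/
def pullP (W : (triv x).total.affineOpens) : Γ(X, (down W).1) →+* Γ((triv x).total, W.1) :=
  ((proj x).appLE (down W).1 W.1 (le_preimage_proj W.1)).hom

/-- The class of `ε`. -/
def epsW (W : (triv x).total.Opens) : Γ((triv x).total, W) :=
  Hilb85.baseMap (A' := CommRingCat.of (dual k k).carrier) (triv x).f W (DualNumber.eps : DualNumber k)

theorem epsW_mul_self (W : (triv x).total.Opens) : epsW W * epsW W = 0 := by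
  rw [epsW, ← map_mul]
  exact (congrArg _ (DualNumber.eps_mul_eps (R := k))).trans (map_zero _)

/-- The twisted pullback. -/
def twist (W : (triv x).total.affineOpens) : Γ(X, (down W).1) →+* Γ((triv x).total, W.1) where
  toFun a := pullP W a + epsW W.1 * pullP W (D.app (down W) le_top a)
  map_one' := by
    have h1 : D.app (down W) le_top 1 = 0 := by
      have h := D.mul (down W) le_top 1 1
      rw [one_mul, one_mul] at h
      exact left_eq_add.1 h
    rw [h1, map_one, map_zero, mul_zero, add_zero]
  map_mul' a b := by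
    rw [D.mul, map_add, map_mul, map_mul, map_mul]
    linear_combination (-(pullP W (D.app (down W) le_top a) * pullP W (D.app (down W) le_top b))) * epsW_mul_self W.1
  map_zero' := by
    have h1 : D.app (down W) le_top 0 = 0 := by
      have h := D.add (down W) le_top 0 0
      rw [add_zero] at h
      exact left_eq_add.1 h
    rw [h1, map_zero, mul_zero, add_zero]
  map_add' a b := by rw [D.add, map_add, map_add]; ring

theorem exists_twistHom : ∃ θ : (triv x).total ⟶ X, ∀ W : (triv x).total.affineOpens,
    ∃ e : W.1 ≤ θ ⁻¹ᵁ (down W).1, θ.appLE (down W).1 W.1 e = CommRingCat.ofHom (twist D W) := by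
  refine Rib52.exists_hom_of_affine down (fun {V W} h => (triv x).i.preimage_mono h) _ fun {V W} h => ?_
  ext a
  show twist D V (X.presheaf.map _ a) = (triv x).total.presheaf.map (homOfLE h).op (twist D W a)
  have hP : ∀ a, pullP V (X.presheaf.map (homOfLE ((triv x).i.preimage_mono h)).op a) =
      (triv x).total.presheaf.map (homOfLE h).op (pullP W a) := fun a => by
    show (X.presheaf.map _ ≫ (proj x).appLE _ _ _) a = ((proj x).appLE _ _ _ ≫ (triv x).total.presheaf.map _) a
    rw [Scheme.Hom.map_appLE, Scheme.Hom.appLE_map]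
  have hE : (triv x).total.presheaf.map (homOfLE h).op (epsW W.1) = epsW V.1 := by
    show ((triv x).f.appLE ⊤ W.1 le_top ≫ (triv x).total.presheaf.map _) _ = (triv x).f.appLE ⊤ V.1 le_top _
    rw [Scheme.Hom.appLE_map]
  show pullP V (X.presheaf.map _ a) + epsW V.1 * pullP V (D.app _ le_top (X.presheaf.map _ a)) =
    (triv x).total.presheaf.map (homOfLE h).op (pullP W a + epsW W.1 * pullP W (D.app (down W) le_top a))
  rw [map_add, map_mul, hE, ← hP, ← hP, D.res_eq (U := down W) (V := down V) le_top ((triv x).i.preimage_mono h)]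
  rfl

theorem exists_endo_ne_id {U : X.affineOpens} {s : Γ(X, U.1)} (hs : D.app U le_top s ≠ 0) :
    ∃ φ : (triv x).total ⟶ (triv x).total,
      φ ≫ (triv x).f = (triv x).f ∧ (triv x).i ≫ φ = (triv x).i ∧ φ ≠ 𝟙 _ := by
  obtain ⟨θ, hθ⟩ := exists_twistHom D
  have hx : θ ≫ x = (triv x).f ≫ specMap (ofBase (dual k k)) := by
    refine Eq.trans ?_ (pullback.condition (f := x) (g := specMap (ofBase (dual k k))))
    haveI : IsIso (⊤ : (triv x).total.Opens).ι := (triv x).total.topIso.isIso_hom
    refine Rib52.hom_ext_affine_le (U := (⊤ : (triv x).total.Opens)) (g₁ := (⊤ : (triv x).total.Opens).ι ≫ θ ≫ x)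
      (g₂ := (⊤ : (triv x).total.Opens).ι ≫ proj x ≫ x) ?_ |> fun h => (cancel_epi _).1 h
    intro W _
    rw [Scheme.homOfLE_ι_assoc, Scheme.homOfLE_ι_assoc]
    obtain ⟨e, he⟩ := hθ W
    have hx : ∀ (g : (triv x).total ⟶ X), W.1 ≤ (g ≫ x) ⁻¹ᵁ ⊤ := fun g => le_top
    refine ι_comp_eq (isAffineOpen_top (specPt k)) W.2 (hx θ) (hx _) ?_
    rw [← Scheme.Hom.appLE_comp_appLE θ x ⊤ (down W).1 W.1 le_top e,
      ← Scheme.Hom.appLE_comp_appLE (proj x) x ⊤ (down W).1 W.1 le_top (le_preimage_proj W.1), he]
    ext c'
    obtain ⟨c, rfl⟩ : ∃ c, (Scheme.ΓSpecIso (CommRingCat.of k)).inv c = c' :=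
      ⟨(Scheme.ΓSpecIso _).hom c', by rw [← ConcreteCategory.comp_apply, Iso.hom_inv_id]; rfl⟩
    show pullP W (scal x _ c) + epsW W.1 * pullP W (D.app (down W) le_top (scal x _ c)) = pullP W (scal x _ c)
    rw [D.scal_eq, map_zero, mul_zero, add_zero]
  refine ⟨pullback.lift θ (triv x).f hx, pullback.lift_snd _ _ _, ?_, fun hid => hs ?_⟩
  · apply pullback.hom_ext
    · rw [Category.assoc, pullback.lift_fst]
      refine Eq.trans ?_ i_proj.symm
      haveI : IsIso (⊤ : X.Opens).ι := X.topIso.isIso_hom
      refine Rib52.hom_ext_affine_le (U := (⊤ : X.Opens)) (g₁ := (⊤ : X.Opens).ι ≫ (triv x).i ≫ θ)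
        (g₂ := (⊤ : X.Opens).ι ≫ 𝟙 X) ?_ |> fun h => (cancel_epi _).1 h
      intro V _
      rw [Scheme.homOfLE_ι_assoc, Scheme.homOfLE_ι_assoc]
      let W := upAff (triv x) V
      have hWV : (down W).1 = V.1 := preimage_up _ _
      obtain ⟨e, he⟩ := hθ W
      have e1 : V.1 ≤ ((triv x).i ≫ θ) ⁻¹ᵁ (down W).1 := fun p hp => e (Set.mem_image_of_mem _ hp)
      have e2 : V.1 ≤ (𝟙 X : X ⟶ X) ⁻¹ᵁ (down W).1 := hWV.ge
      refine ι_comp_eq (down W).2 V.2 e1 e2 ?_
      rw [← Scheme.Hom.appLE_comp_appLE (triv x).i θ (down W).1 W.1 V.1 e (preimage_up _ _).ge, he]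
      ext a
      show red (triv x) V (pullP W a + epsW W.1 * pullP W (D.app (down W) le_top a)) = _
      rw [map_add, map_mul]
      have h0 : red (triv x) V (epsW (x := x) W.1) = (0 : Γ(X, V.1)) := by
        refine (red_algebraMap (triv x) V (DualNumber.eps : DualNumber k)).trans ?_
        show scal x V.1 (TrivSqZeroExt.fst (DualNumber.eps : DualNumber k)) = 0
        rw [show TrivSqZeroExt.fst (DualNumber.eps : DualNumber k) = (0 : k) from TrivSqZeroExt.fst_inr k 1, map_zero]
      rw [h0, zero_mul, add_zero]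
      show ((proj x).appLE _ _ _ ≫ (triv x).i.appLE _ _ _) a = _
      rw [Scheme.Hom.appLE_comp_appLE]
      simp only [i_proj]
    · rw [Category.assoc, pullback.lift_snd]
      rfl
  · have hθp : θ = proj x := by
      exact (pullback.lift_fst _ _ _).symm.trans ((congrArg (· ≫ proj x) hid).trans (Category.id_comp _))
    let W := upAff (triv x) U
    have hWU : down W = U := Subtype.ext (preimage_up _ _)
    obtain ⟨e, he⟩ := hθ W
    subst hθp
    have hW : ∀ V : X.affineOpens, down W = V → ∀ s : Γ(X, V.1), D.app V le_top s = 0 := by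
      intro V hV a
      subst hV
      have h1 : pullP W a + epsW W.1 * pullP W (D.app (down W) le_top a) = pullP W a :=
        (congrArg (fun f : Γ(X, (down W).1) ⟶ Γ((triv x).total, W.1) => f.hom a) he).symm
      rw [add_eq_left] at h1
      have h2 : red (triv x) U (pullP W (D.app (down W) le_top a)) = 0 := by
        rw [← RingHom.mem_ker, ker_red]
        refine mem_of_mul_mem (A := (dual k k).carrier) (J := ⊥) (t := (DualNumber.eps : DualNumber k)) ?_ ?_ ?_
        · rw [Ideal.mem_bot]
          exact fun h => one_ne_zero (α := k) (congrArg TrivSqZeroExt.snd h)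
        · intro b hb
          rw [Ideal.mem_bot]
          rw [mem_maximalIdeal_iff] at hb
          refine TrivSqZeroExt.ext ?_ ?_
          · show TrivSqZeroExt.fst (b : DualNumber k) * 0 = 0
            exact mul_zero _
          · show TrivSqZeroExt.fst (b : DualNumber k) * 1 + TrivSqZeroExt.snd (b : DualNumber k) * 0 = 0
            rw [mul_zero, add_zero, mul_one]
            exact hb
        · rw [Ideal.map_bot, Ideal.mem_bot]
          exact h1
      have h3 : red (triv x) U (pullP W (D.app (down W) le_top a)) =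
          X.presheaf.map (homOfLE (congrArg Subtype.val hWU).ge).op (D.app (down W) le_top a) := by
        show ((proj x).appLE _ _ _ ≫ (triv x).i.appLE _ _ _) _ = _
        rw [Scheme.Hom.appLE_comp_appLE]
        simp only [i_proj]
        simp [Scheme.Hom.appLE]
      rw [h3] at h2
      have h4 := congrArg (X.presheaf.map (homOfLE (congrArg Subtype.val hWU).le).op) h2
      rw [map_zero, res_struct] at h4
      simpa using h4
    exact hW U hWU s

end Twist

end Groth.Agent.DefSm85
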