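import Groth.Agent.DefSm85.Der
import Groth.Agent.Lift3.OnOpen
import Groth.Agent.Hilb85.NormalH0
import Groth.Agent.Serre71.HHLin

/-!
Sections of the tangent sheaf as families of derivations on affine opens.
-/

set_option autoImplicit false
set_option linter.style.haveILetI false
set_option backward.isDefEq.respectTransparency false
universe u

open CategoryTheory CategoryTheory.Limits AlgebraicGeometry TopologicalSpace Opposite
open ArtFun ArtFun.Art

noncomputable section

namespace Groth.Agent.DefSm85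

open Groth.Agent QC70 Hilb85 Lift3.OnOpen

variable {k : Type u} [Field k] {X : Scheme.{u}} {x : X ⟶ specPt k}

namespace DerFam

variable {P Q : X.Opens}

instance : Zero (DerFam x P) :=
  ⟨{ app := fun _ _ _ => 0
     add := fun _ _ _ _ => (add_zero _).symm
     mul := fun _ _ _ _ => by simp
     scal_eq := fun _ _ _ => rfl
     res_eq := fun _ _ _ => (map_zero _).symm }⟩

instance : Add (DerFam x P) :=
  ⟨fun D E =>
    { app := fun U hU a => D.app U hU a + E.app U hU a
      add := fun U hU a b => by simp only [D.add, E.add]; ring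
      mul := fun U hU a b => by simp only [D.mul, E.mul]; ring
      scal_eq := fun U hU c => by simp only [D.scal_eq, E.scal_eq, add_zero]
      res_eq := fun {U V} hU h a => by simp only [D.res_eq hU h, E.res_eq hU h, map_add] }⟩

instance : Neg (DerFam x P) :=
  ⟨fun D =>
    { app := fun U hU a => - D.app U hU a
      add := fun U hU a b => by simp only [D.add]; ring
      mul := fun U hU a b => by simp only [D.mul]; ring
      scal_eq := fun U hU c => by simp only [D.scal_eq, neg_zero]
      res_eq := fun {U V} hU h a => by simp only [D.res_eq hU h, map_neg] }⟩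

@[simp] theorem zero_app (U : X.affineOpens) (hU : U.1 ≤ P) (a : Γ(X, U.1)) : (0 : DerFam x P).app U hU a = 0 := rfl
@[simp] theorem add_app (D E : DerFam x P) (U : X.affineOpens) (hU : U.1 ≤ P) (a : Γ(X, U.1)) :
    (D + E).app U hU a = D.app U hU a + E.app U hU a := rfl
@[simp] theorem neg_app (D : DerFam x P) (U : X.affineOpens) (hU : U.1 ≤ P) (a : Γ(X, U.1)) :
    (-D).app U hU a = - D.app U hU a := rfl

instance : AddCommGroup (DerFam x P) where
  add_assoc D E F := by ext U hU a; simp [add_assoc]
  zero_add D := by ext U hU a; simp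
  add_zero D := by ext U hU a; simp
  add_comm D E := by ext U hU a; simp [add_comm]
  neg_add_cancel D := by ext U hU a; simp
  nsmul := nsmulRec
  zsmul := zsmulRec

@[simp] theorem sub_app (D E : DerFam x P) (U : X.affineOpens) (hU : U.1 ≤ P) (a : Γ(X, U.1)) :
    (D - E).app U hU a = D.app U hU a - E.app U hU a := by rw [sub_eq_add_neg, add_app, neg_app, sub_eq_add_neg]

/-- Restriction to a smaller open. -/
def mono (h : Q ≤ P) (D : DerFam x P) : DerFam x Q where
  app U hU := D.app U (hU.trans h)
  add U hU := D.add U (hU.trans h)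
  mul U hU := D.mul U (hU.trans h)
  scal_eq U hU := D.scal_eq U (hU.trans h)
  res_eq {U V} hU h' := D.res_eq (hU.trans h) h'

@[simp] theorem mono_app (h : Q ≤ P) (D : DerFam x P) (U : X.affineOpens) (hU : U.1 ≤ Q) (a : Γ(X, U.1)) :
    (D.mono h).app U hU a = D.app U (hU.trans h) a := rfl

theorem exists_glueOn (D : DerFam x P) {W : X.Opens} (hW : W ≤ P) (s : Γ(X, W)) :
    ∃ t : Γ(X, W), ∀ v : AffIn W,
      X.presheaf.map (homOfLE v.2).op t = D.app v.1 (v.2.trans hW) (X.presheaf.map (homOfLE v.2).op s) := by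
  refine QC70.exists_glue (Coh.structureModule X) (fun v : AffIn W => v.1.1) (fun v => v.2) (le_iSup_affIn W) _
    fun v w => struct_ext _ fun V => ?_
  show X.presheaf.map (homOfLE V.2).op (X.presheaf.map (homOfLE _).op _) =
    X.presheaf.map (homOfLE V.2).op (X.presheaf.map (homOfLE _).op _)
  rw [res_struct, res_struct, ← D.res_eq, ← D.res_eq, res_struct, res_struct]

/-- The value on an arbitrary open inside. -/
def valOn (D : DerFam x P) {W : X.Opens} (hW : W ≤ P) (s : Γ(X, W)) : Γ(X, W) := (D.exists_glueOn hW s).choose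

theorem valOn_spec (D : DerFam x P) {W : X.Opens} (hW : W ≤ P) (s : Γ(X, W)) (U : X.affineOpens) (hU : U.1 ≤ W) :
    X.presheaf.map (homOfLE hU).op (D.valOn hW s) = D.app U (hU.trans hW) (X.presheaf.map (homOfLE hU).op s) :=
  (D.exists_glueOn hW s).choose_spec ⟨U, hU⟩

theorem valOn_res (D : DerFam x P) {W W' : X.Opens} (hW : W ≤ P) (h : W' ≤ W) (s : Γ(X, W)) :
    D.valOn (h.trans hW) (X.presheaf.map (homOfLE h).op s) = X.presheaf.map (homOfLE h).op (D.valOn hW s) :=
  struct_ext _ fun v => by rw [res_struct, D.valOn_spec, D.valOn_spec, res_struct]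

theorem valOn_affine (D : DerFam x P) (U : X.affineOpens) (hU : U.1 ≤ P) (s : Γ(X, U.1)) :
    D.valOn hU s = D.app U hU s := by
  simpa using D.valOn_spec hU s U le_rfl

/-- The derivation into the sections on the trace of the open. -/
def toDerOn (D : DerFam x P) : OmegaSh.Der x (onOpen P (Coh.structureModule X)) where
  d {W} := AddMonoidHom.mk'
    (fun s => (D.valOn inf_le_right (X.presheaf.map (homOfLE (inf_le_left : W.unop ⊓ P ≤ W.unop)).op s) :
      Piece P (Coh.structureModule X) W.unop))
    fun a b => by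
      show D.valOn inf_le_right _ = ((D.valOn inf_le_right _ : Γ(X, W.unop ⊓ P)) + D.valOn inf_le_right _ : Γ(X, W.unop ⊓ P))
      refine struct_ext _ fun v => ?_
      rw [map_add, map_add, D.valOn_spec, D.valOn_spec, D.valOn_spec, map_add, D.add]
  d_mul {W} a b := by
    show D.valOn inf_le_right _ = (X.presheaf.map (homOfLE (inf_le_left : W.unop ⊓ P ≤ W.unop)).op a * D.valOn inf_le_right _ +
      X.presheaf.map (homOfLE (inf_le_left : W.unop ⊓ P ≤ W.unop)).op b * D.valOn inf_le_right _ : Γ(X, W.unop ⊓ P))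
    refine struct_ext _ fun v => ?_
    rw [map_add, map_mul, map_mul, map_mul, D.valOn_spec, D.valOn_spec, D.valOn_spec, map_mul, D.mul]
  d_map {W W'} i s := by
    show D.valOn inf_le_right (X.presheaf.map (homOfLE (inf_le_left : W'.unop ⊓ P ≤ W'.unop)).op
      (X.presheaf.map (homOfLE i.unop.le).op s)) =
      X.presheaf.map (homOfLE (inf_le_inf_right P i.unop.le)).op (D.valOn inf_le_right _)
    rw [← D.valOn_res, res_struct, res_struct]
  d_app {T} c := by
    show D.valOn inf_le_right _ = (0 : Γ(X, (x ⁻¹ᵁ T.unop) ⊓ P))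
    refine struct_ext _ fun v => ?_
    rw [map_zero, D.valOn_spec]
    refine (congrArg (D.app v.1 _) (res_struct (U := x ⁻¹ᵁ T.unop) inf_le_left v.2 (x.app T.unop c))).trans ?_
    have hv : X.presheaf.map (homOfLE (v.2.trans inf_le_left)).op (x.app T.unop c) =
        x.appLE T.unop v.1.1 (v.2.trans inf_le_left) c := rfl
    refine (congrArg (D.app v.1 _) hv).trans ?_
    rcases eq_bot_or_eq_top (α := (specPt k).Opens) T.unop with h | h
    · have hb : v.1.1 = ⊥ := Opens.ext (Set.eq_empty_iff_forall_notMem.2 fun p hp =>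
        (h.le (v.2.trans inf_le_left hp) : x.base p ∈ (⊥ : (specPt k).Opens)))
      haveI : Subsingleton Γ(X, v.1.1) := by rw [hb]; infer_instance
      exact Subsingleton.elim _ _
    · have key : ∀ (T' : (specPt k).Opens) (e : v.1.1 ≤ x ⁻¹ᵁ T') (c' : Γ(specPt k, T')) (_ : T' = ⊤),
          D.app v.1 (v.2.trans inf_le_right) (x.appLE T' v.1.1 e c') = 0 := by
        intro T' e c' hT
        subst hT
        obtain ⟨d, rfl⟩ : ∃ d, (Scheme.ΓSpecIso (CommRingCat.of k)).inv d = c' :=
          ⟨(Scheme.ΓSpecIso _).hom c', by rw [← ConcreteCategory.comp_apply, Iso.hom_inv_id]; rfl⟩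
        exact D.scal_eq v.1 (v.2.trans inf_le_right) d
      exact key _ _ _ h

variable [QuasiSeparated x]

/-- The family of a local morphism out of the differentials. -/
def ofHomOn (φ : HomOn (Omega.sheaf x) (Coh.structureModule X) P) : DerFam x P where
  app U hU a := φ.app U.1 hU (OmegaSh.Der.app (OmegaSh.dOmega x) U.1 a)
  add U hU a b := by rw [map_add, map_add]
  mul U hU a b := by
    refine (congrArg (φ.app U.1 hU) ((OmegaSh.dOmega x).d_mul (X := op U.1) a b)).trans ?_
    exact (map_add _ _ _).trans (congrArg₂ (· + ·) (map_smul (φ.app U.1 hU) a _) (map_smul (φ.app U.1 hU) b _))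
  scal_eq U hU c := by
    have h : OmegaSh.Der.app (OmegaSh.dOmega x) U.1 (scal x U.1 c) = 0 := by
      refine ((OmegaSh.dOmega x).d_map (homOfLE (le_top : U.1 ≤ x ⁻¹ᵁ ⊤)).op
        (x.app ⊤ ((Scheme.ΓSpecIso (CommRingCat.of k)).inv c))).trans ?_
      exact (congrArg _ ((OmegaSh.dOmega x).d_app (X := op ⊤) _)).trans (map_zero _)
    rw [h, map_zero]
  res_eq {U V} hU h a := by
    refine (congrArg (φ.app V.1 _) ((OmegaSh.dOmega x).d_map (homOfLE h).op a)).trans ?_
    exact φ.app_res hU h _

theorem toHomOn_ofHomOn {M N : X.Modules} (φ : HomOn M N P) : toHomOn (Lift3.OnOpen.ofHomOn φ) = φ := by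
  refine HomOn.ext' fun W hW s => ?_
  show res N _ (φ.app (W ⊓ P) inf_le_right (res M inf_le_left s)) = φ.app W hW s
  rw [← φ.app_res, res_res, res_self]

variable (x P) in
/-- Local morphisms out of the differentials are families of derivations. -/
def homOnEquiv : HomOn (Omega.sheaf x) (Coh.structureModule X) P ≃+ DerFam x P := by
  refine AddEquiv.mk' (Equiv.ofBijective ofHomOn ⟨fun φ ψ e => ?_, fun D => ?_⟩) fun φ ψ => ?_
  · obtain ⟨_, -, hu⟩ := Var76.OmegaUniv.isUniversal x _
      ((OmegaSh.dOmega x).postcomp (Lift3.OnOpen.ofHomOn ψ).val)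
    refine (toHomOn_ofHomOn φ).symm.trans
      ((congrArg toHomOn ((hu _ ?_).trans (hu _ rfl).symm)).trans (toHomOn_ofHomOn ψ))
    refine PresheafOfModules.Derivation.ext (funext fun W => AddMonoidHom.ext fun s => ?_)
    obtain ⟨W⟩ := W
    show (φ.app (W ⊓ P) inf_le_right (res _ inf_le_left (OmegaSh.Der.app (OmegaSh.dOmega x) W s)) :
        Γ(X, W ⊓ P)) = ψ.app (W ⊓ P) inf_le_right (res _ inf_le_left (OmegaSh.Der.app (OmegaSh.dOmega x) W s))
    refine struct_ext _ fun v => ?_
    have h1 : ∀ χ : HomOn (Omega.sheaf x) (Coh.structureModule X) P, X.presheaf.map (homOfLE v.2).op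
        (χ.app (W ⊓ P) inf_le_right (res _ inf_le_left (OmegaSh.Der.app (OmegaSh.dOmega x) W s))) =
        (ofHomOn χ).app v.1 (v.2.trans inf_le_right)
          (X.presheaf.map (homOfLE (v.2.trans inf_le_left)).op s) := fun χ => by
      refine (χ.app_res inf_le_right v.2 _).symm.trans ?_
      rw [res_res]
      exact congrArg (χ.app v.1.1 _) ((OmegaSh.dOmega x).d_map (homOfLE (v.2.trans inf_le_left)).op s).symm
    rw [h1, h1, e]
  · obtain ⟨u, hu, -⟩ := Var76.OmegaUniv.isUniversal x _ D.toDerOn
    refine ⟨toHomOn u, DerFam.ext (funext fun U => funext fun hU => funext fun a => ?_)⟩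
    show res (Coh.structureModule X) _ (sec (u.app U.1 (OmegaSh.Der.app (OmegaSh.dOmega x) U.1 a))) = D.app U hU a
    rw [show u.app U.1 (OmegaSh.Der.app (OmegaSh.dOmega x) U.1 a) = OmegaSh.Der.app D.toDerOn U.1 a from
      congr($(congrArg (fun E => OmegaSh.Der.app E U.1) hu) a)]
    show X.presheaf.map (homOfLE (le_inf le_rfl hU)).op (D.valOn inf_le_right _) = _
    rw [D.valOn_spec, res_struct]
    simp
  · exact DerFam.ext (funext fun U => funext fun hU => funext fun a => rfl)

end DerFam

variable [QuasiSeparated x] [DCoh.HasSheafHom (Omega.sheaf x)]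

variable (x) in
/-- The tangent sheaf. -/
abbrev tanSheaf : X.Modules := (DCoh.sheafHom (Omega.sheaf x)).obj (Coh.structureModule X)

variable (x) in
/-- Sections of the tangent sheaf are families of derivations. -/
def secTan (P : X.Opens) : Γ(tanSheaf x, P) ≃+ DerFam x P :=
  ((appEquiv ((sheafHomIso (Omega.sheaf x)).app (Coh.structureModule X)) P).trans
    (AddEquiv.mk' ⟨ofSec, HomOn.toSec, fun _ => rfl, fun _ => rfl⟩ fun _ _ => rfl)).trans (DerFam.homOnEquiv x P)

theorem secTan_res {P Q : X.Opens} (h : Q ≤ P) (s : Γ(tanSheaf x, P)) :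
    secTan x Q (QC70.res _ h s) = (secTan x P s).mono h := by
  let e := (sheafHomIso (Omega.sheaf x)).app (Coh.structureModule X)
  have h1 : ofSec (e.hom.app Q (QC70.res _ h s)) = (ofSec (e.hom.app P s)).mono h :=
    congrArg ofSec (QC70.app_res e.hom h s)
  exact DerFam.ext (funext fun U => funext fun hU => funext fun a =>
    congrArg (fun φ : HomOn (Omega.sheaf x) (Coh.structureModule X) Q =>
      φ.app U.1 hU (OmegaSh.Der.app (OmegaSh.dOmega x) U.1 a)) h1)

theorem secTan_smul {P : X.Opens} (r : Γ(X, P)) (s : Γ(tanSheaf x, P)) (U : X.affineOpens) (hU : U.1 ≤ P)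
    (a : Γ(X, U.1)) :
    (secTan x P (r • s)).app U hU a = X.presheaf.map (homOfLE hU).op r * (secTan x P s).app U hU a := by
  let e := (sheafHomIso (Omega.sheaf x)).app (Coh.structureModule X)
  show (ofSec (e.hom.app P (r • s))).app U.1 hU _ = _
  rw [Scheme.Modules.Hom.app_smul]
  rfl

/-- Global scalars on an open. -/
theorem globalA_res [X.Over (Spec (CommRingCat.of k))] (hx : X ↘ Spec (CommRingCat.of k) = x) (c : k) (U : X.Opens) :
    X.presheaf.map (homOfLE (le_top : U ≤ ⊤)).op (Serre71.globalA k X c) = scal x U c := by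
  subst hx
  rfl

end Groth.Agent.DefSm85
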