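import Groth.Agent.DefSm85.CHom
import Groth.Agent.DefSm85.Tan

/-!
Differences of chartwise maps as families of derivations.
-/

set_option autoImplicit false
set_option linter.style.haveILetI false
set_option linter.unusedSectionVars false
set_option backward.isDefEq.respectTransparency false
universe u

open CategoryTheory CategoryTheory.Limits AlgebraicGeometry TopologicalSpace Opposite
open ArtFun ArtFun.Art

noncomputable section

namespace Groth.Agent.DefSm85

open Hilb85

variable {k : Type u} [Field k] {X : Scheme.{u}} {x : X ⟶ specPt k} {C' C : Art k k} {p : C' ⟶ C}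
  {𝒳 : DefSch X x C} {ι : Type u} [Fintype ι] {P Q : X.Opens} {E₁ E₂ E₃ : Loc p 𝒳 P}

/-- `d` is the difference `f - g`. -/
def IsCDiff (e : ι → C'.carrier) (f g : CHom E₁ E₂) (d : ι → DerFam x P) : Prop :=
  ∀ V hV, IsHDiff e (red E₂.tot V) (red E₁.tot V) (f.app V hV) (g.app V hV) fun i => (d i).app V hV

variable {e : ι → C'.carrier}
  (he : LiftAlg.Small (RingHom.ker p.toAlgHom) (IsLocalRing.maximalIdeal C'.carrier) e)
  (hp : IsSemismallExt p)

variable {f f' g g' h : CHom E₁ E₂} {d d' : ι → DerFam x P}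

theorem IsCDiff.mono (hQ : Q ≤ P) (hd : IsCDiff e f g d) :
    IsCDiff e (f.mono hQ) (g.mono hQ) fun i => (d i).mono hQ := fun V hV => hd V (hV.trans hQ)

include he in
theorem IsCDiff.unique (hd : IsCDiff e f g d) (hd' : IsCDiff e f g d') : d = d' :=
  funext fun i => DerFam.ext (funext fun V => funext fun hV =>
    congrFun ((hd V hV).unique he (isRed_red E₁.tot V) (red_surjective E₂.tot V) (hd' V hV)) i)

include he in
theorem IsCDiff.self : IsCDiff e f f (0 : ι → DerFam x P) := fun V _ =>
  IsHDiff.self he (isRed_red E₁.tot V)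

include he in
theorem IsCDiff.trans (hd : IsCDiff e f g d) (hd' : IsCDiff e g h d') : IsCDiff e f h (d + d') := fun V hV =>
  (hd V hV).trans he (isRed_red E₁.tot V) (hd' V hV)

include he in
theorem IsCDiff.symm (hd : IsCDiff e f g d) : IsCDiff e g f (-d) := fun V hV b c hc => by
  rw [← neg_sub, hd V hV b (-c) fun i => ?_]
  · simp [LiftAlg.comb, Algebra.smul_def]
  · rw [Pi.neg_apply, map_neg, hc]
    simp

include he in
theorem IsCDiff.sub (hd : IsCDiff e f g d) (hd' : IsCDiff e f' g d') : IsCDiff e f f' (d - d') := by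
  rw [sub_eq_add_neg]
  exact hd.trans he (hd'.symm he)

theorem IsCDiff.eq_of_zero (hd : IsCDiff e f g (0 : ι → DerFam x P)) : f = g :=
  CHom.ext (funext fun V => funext fun hV => (hd V hV).eq_of_zero (isRed_red E₁.tot V) fun _ _ => rfl)

include he in
theorem IsCDiff.comp_left {E₀ : Loc p 𝒳 P} (w : CHom E₀ E₁) (hd : IsCDiff e f g d) :
    IsCDiff e (w.comp f) (w.comp g) d := fun V hV =>
  (hd V hV).comp_left he (isRed_red E₁.tot V) (isRed_red E₀.tot V) (w.app V hV) (w.app_algebraMap V hV)
    (w.red_app V hV)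

theorem IsCDiff.comp_right (w : CHom E₂ E₃) (hd : IsCDiff e f g d) : IsCDiff e (f.comp w) (g.comp w) d :=
  fun V hV => (hd V hV).comp_right (w.app V hV) (w.red_app V hV)

variable (f g d)

include he hp in
theorem exists_isCDiff : ∃ d : ι → DerFam x P, IsCDiff e f g d := by
  choose d hd hadd hmul hbase using fun V hV => exists_isHDiff he (isRed_red E₁.tot V) (isRed_red E₂.tot V)
    (f.app_algebraMap V hV) (g.app_algebraMap V hV) (f.red_app V hV) fun b =>
      (E₁.ker_γ hp V hV).le (show E₁.γ V hV _ = 0 by rw [map_sub, f.γ_app, g.γ_app, sub_self])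
  refine ⟨fun i => ⟨fun V hV => d V hV i, fun V hV => hadd V hV i, fun V hV => hmul V hV i, fun V hV c => ?_,
    fun {U V} hU hVU z => ?_⟩, hd⟩
  · rw [show scal x V.1 c = red E₂.tot V (algebraMap C'.carrier (sect E₂.tot V) (algebraMap k C'.carrier c)) from
      ((red_algebraMap E₂.tot V _).trans (congrArg _ (C'.res.commutes c))).symm]
    exact hbase V hV i _
  · obtain ⟨b, rfl⟩ := red_surjective E₂.tot U z
    choose c hc using fun j => red_surjective E₁.tot U (d U hU j (red E₂.tot U b))
    have h1 : f.app V (hVU.trans hU) (resC E₂.tot hVU b) - g.app V (hVU.trans hU) (resC E₂.tot hVU b) =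
        LiftAlg.comb e fun j => resC E₁.tot hVU (c j) := by
      rw [f.res_app hU hVU, g.res_app hU hVU, ← map_sub, hd U hU b c hc, LiftAlg.comb, map_sum]
      refine Finset.sum_congr rfl fun j _ => ?_
      rw [Algebra.smul_def, Algebra.smul_def, map_mul, resC_algebraMap]
    have h2 := (hd V (hVU.trans hU)).coeff_eq he (isRed_red E₁.tot V) h1 i
    rw [red_resC, red_resC, hc] at h2
    exact h2.symm

include he hp in
theorem exists_twistC : ∃ f : CHom E₁ E₂, IsCDiff e f g d := by
  choose f hd hmem hbase using fun V hV => exists_twist he (isRed_red E₁.tot V) (g.app V hV) (g.red_app V hV)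
    (fun i => (d i).app V hV) (fun i => (d i).add V hV) fun i => (d i).mul V hV
  refine ⟨⟨f, fun V hV a => ?_, fun V hV b => ?_, fun {U V} hU hVU b => ?_⟩, hd⟩
  · rw [hbase V hV _ fun i => by rw [red_algebraMap]; exact (d i).scal_eq V hV _, g.app_algebraMap]
  · have h0 : E₁.γ V hV (f V hV b - g.app V hV b) = 0 := (E₁.ker_γ hp V hV).ge (hmem V hV b)
    rw [map_sub, sub_eq_zero, g.γ_app] at h0
    exact h0
  · choose c hc using fun j => red_surjective E₁.tot U ((d j).app U hU (red E₂.tot U b))
    have h1 := hd U hU b c hc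
    have h2 := hd V (hVU.trans hU) (resC E₂.tot hVU b) (fun j => resC E₁.tot hVU (c j)) fun j => by
      rw [red_resC, red_resC, hc]
      exact ((d j).res_eq hU hVU _).symm
    rw [sub_eq_iff_eq_add] at h1 h2
    rw [h2, h1, map_add, g.res_app hU hVU, LiftAlg.comb, LiftAlg.comb, map_sum]
    congr 1
    refine Finset.sum_congr rfl fun j _ => ?_
    rw [Algebra.smul_def, Algebra.smul_def, map_mul, resC_algebraMap]

end Groth.Agent.DefSm85
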