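import Groth.Agent.DefSm85.Chart
import Groth.Agent.Hilb85.IdealHom
import Groth.Agent.Var76.OmegaUniv
import Groth.Prelude.Def_Omega4

/-!
Derivations of a scheme over a field from compatible derivations on affine opens.
-/

set_option autoImplicit false
set_option linter.style.haveILetI false
set_option backward.isDefEq.respectTransparency false
universe u

open CategoryTheory CategoryTheory.Limits AlgebraicGeometry TopologicalSpace Opposite
open ArtFun ArtFun.Art

noncomputable section

namespace Groth.Agent.DefSm85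

open Groth.Agent QC70 Hilb85

variable {k : Type u} [Field k] {X : Scheme.{u}} (x : X ⟶ specPt k)

/-- Compatible derivations on the affine opens inside an open. -/
@[ext]
structure DerFam (P : X.Opens) : Type u where
  /-- the maps -/
  app : ∀ U : X.affineOpens, U.1 ≤ P → Γ(X, U.1) → Γ(X, U.1)
  add : ∀ U hU a b, app U hU (a + b) = app U hU a + app U hU b
  mul : ∀ U hU a b, app U hU (a * b) = a * app U hU b + b * app U hU a
  scal_eq : ∀ U hU c, app U hU (scal x U.1 c) = 0
  res_eq : ∀ {U V : X.affineOpens} (hU : U.1 ≤ P) (h : V.1 ≤ U.1) a,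
    app V (h.trans hU) (X.presheaf.map (homOfLE h).op a) = X.presheaf.map (homOfLE h).op (app U hU a)

theorem scal_res {U V : X.Opens} (h : V ≤ U) (c : k) :
    X.presheaf.map (homOfLE h).op (scal x U c) = scal x V c := by
  show (x.appLE ⊤ U le_top ≫ X.presheaf.map _) _ = x.appLE ⊤ V le_top _
  rw [Scheme.Hom.appLE_map]

theorem struct_ext (W : X.Opens) {a b : Γ(X, W)}
    (h : ∀ v : AffIn W, X.presheaf.map (homOfLE v.2).op a = X.presheaf.map (homOfLE v.2).op b) : a = b :=
  section_ext' (Coh.structureModule X) (fun v : AffIn W => v.1.1) (fun v => v.2) (le_iSup_affIn W) a b h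

theorem res_struct {U V W : X.Opens} (h : V ≤ U) (h' : W ≤ V) (a : Γ(X, U)) :
    X.presheaf.map (homOfLE h').op (X.presheaf.map (homOfLE h).op a) = X.presheaf.map (homOfLE (h'.trans h)).op a := by
  rw [← ConcreteCategory.comp_apply, ← Functor.map_comp]
  rfl

variable {x}

theorem DerFam.exists_glue (D : DerFam x ⊤) (W : X.Opens) (s : Γ(X, W)) :
    ∃ t : Γ(X, W), ∀ v : AffIn W,
      X.presheaf.map (homOfLE v.2).op t = D.app v.1 le_top (X.presheaf.map (homOfLE v.2).op s) := by
  refine QC70.exists_glue (Coh.structureModule X) (fun v : AffIn W => v.1.1) (fun v => v.2) (le_iSup_affIn W) _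
    fun v w => struct_ext _ fun V => ?_
  show X.presheaf.map (homOfLE V.2).op (X.presheaf.map (homOfLE _).op _) =
    X.presheaf.map (homOfLE V.2).op (X.presheaf.map (homOfLE _).op _)
  rw [res_struct, res_struct, ← D.res_eq, ← D.res_eq, res_struct, res_struct]

/-- The glued value. -/
def DerFam.val (D : DerFam x ⊤) (W : X.Opens) (s : Γ(X, W)) : Γ(X, W) := (D.exists_glue W s).choose

theorem DerFam.val_spec (D : DerFam x ⊤) {W : X.Opens} (s : Γ(X, W)) (U : X.affineOpens) (hU : U.1 ≤ W) :
    X.presheaf.map (homOfLE hU).op (D.val W s) = D.app U le_top (X.presheaf.map (homOfLE hU).op s) :=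
  (D.exists_glue W s).choose_spec ⟨U, hU⟩

theorem DerFam.val_affine (D : DerFam x ⊤) (U : X.affineOpens) (s : Γ(X, U.1)) : D.val U.1 s = D.app U le_top s := by
  simpa using D.val_spec s U le_rfl

/-- The derivation of the sheaf of a family. -/
def DerFam.toDer (D : DerFam x ⊤) : OmegaSh.Der x (Coh.structureModule X) where
  d {W} := AddMonoidHom.mk' (fun s => D.val W.unop s) fun a b => struct_ext _ fun v => by
    rw [map_add, D.val_spec, D.val_spec, D.val_spec, map_add, D.add]
  d_mul {W} a b := struct_ext W.unop fun v => by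
    show X.presheaf.map _ (D.val W.unop (a * b)) = X.presheaf.map _ (a * D.val W.unop b + b * D.val W.unop a)
    rw [map_add, map_mul, map_mul, D.val_spec, D.val_spec, D.val_spec, map_mul, D.mul]
  d_map {W W'} i s := struct_ext W'.unop fun v => by
    show X.presheaf.map (homOfLE v.2).op (D.val W'.unop (X.presheaf.map (homOfLE i.unop.le).op s)) =
      X.presheaf.map (homOfLE v.2).op (X.presheaf.map (homOfLE i.unop.le).op (D.val W.unop s))
    rw [res_struct, D.val_spec, D.val_spec, res_struct]
  d_app {T} c := struct_ext _ fun v => by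
    refine Eq.trans (D.val_spec _ _ v.2) ?_
    show _ = X.presheaf.map (homOfLE v.2).op 0
    rw [map_zero]
    have hv : X.presheaf.map (homOfLE v.2).op (x.app T.unop c) = x.appLE T.unop v.1.1 v.2 c := rfl
    refine (congrArg (D.app v.1 le_top) hv).trans ?_
    rcases eq_bot_or_eq_top (α := (specPt k).Opens) T.unop with h | h
    · have : IsEmpty v.1.1.toScheme := ⟨fun p => by
        have hp := v.2 p.2
        show False
        exact (h.le hp : x.base p.1 ∈ (⊥ : (specPt k).Opens))⟩
      haveI : Subsingleton Γ(X, v.1.1) := by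
        have hb : v.1.1 = ⊥ := Opens.ext (Set.eq_empty_iff_forall_notMem.2 fun p hp => this.false ⟨p, hp⟩)
        rw [hb]
        infer_instance
      exact Subsingleton.elim _ _
    · have key : ∀ (T' : (specPt k).Opens) (e : v.1.1 ≤ x ⁻¹ᵁ T') (c' : Γ(specPt k, T')) (_ : T' = ⊤),
          D.app v.1 le_top (x.appLE T' v.1.1 e c') = 0 := by
        intro T' e c' hT
        subst hT
        obtain ⟨d, rfl⟩ : ∃ d, (Scheme.ΓSpecIso (CommRingCat.of k)).inv d = c' :=
          ⟨(Scheme.ΓSpecIso _).hom c', by rw [← ConcreteCategory.comp_apply, Iso.hom_inv_id]; rfl⟩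
        exact D.scal_eq v.1 le_top d
      exact key _ _ _ h

theorem DerFam.eq_zero_of_subsingleton [QuasiSeparated x] (h : Subsingleton (Omega.sheaf x ⟶ Coh.structureModule X))
    (D : DerFam x ⊤) (U : X.affineOpens) (s : Γ(X, U.1)) : D.app U le_top s = 0 := by
  obtain ⟨α, hα, -⟩ := Var76.OmegaUniv.isUniversal x _ D.toDer
  obtain rfl : α = 0 := Subsingleton.elim _ _
  rw [← D.val_affine]
  exact (congr($(congrArg (fun D' => OmegaSh.Der.app D' U.1) hα) s)).symm

theorem scal_eq_appLE (U : X.Opens) (c : k) :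
    scal x U c = x.appLE ⊤ U le_top ((Scheme.ΓSpecIso (CommRingCat.of k)).inv c) := rfl

/-- The family of a derivation of the sheaf. -/
def DerFam.ofDer (D : OmegaSh.Der x (Coh.structureModule X)) : DerFam x ⊤ where
  app U _ s := D.app U.1 s
  add U _ a b := map_add _ _ _
  mul U _ a b := D.d_mul (X := op U.1) a b
  scal_eq U _ c := by
    rw [scal_eq_appLE]
    show D.app U.1 (X.presheaf.map (homOfLE le_top).op (x.app ⊤ _)) = 0
    refine (D.d_map (homOfLE (le_top : U.1 ≤ x ⁻¹ᵁ ⊤)).op _).trans ?_
    exact (congrArg _ (D.d_app (X := op ⊤) _)).trans (map_zero _)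
  res_eq {U V} _ h a := D.d_map (homOfLE h).op a

theorem exists_derFam_ne_zero [QuasiSeparated x] (h : ¬ Subsingleton (Omega.sheaf x ⟶ Coh.structureModule X)) :
    ∃ (D : DerFam x ⊤) (U : X.affineOpens) (s : Γ(X, U.1)), D.app U le_top s ≠ 0 := by
  by_contra hcon
  push Not at hcon
  refine h ⟨fun α β => ?_⟩
  obtain ⟨γ, -, hu⟩ := Var76.OmegaUniv.isUniversal x _ ((OmegaSh.dOmega x).postcomp β.val)
  refine (hu α ?_).trans (hu β rfl).symm
  refine PresheafOfModules.Derivation.ext (funext fun W => AddMonoidHom.ext fun s => ?_)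
  obtain ⟨W⟩ := W
  refine struct_ext W fun v => ?_
  have key : ∀ ψ : Omega.sheaf x ⟶ Coh.structureModule X,
      X.presheaf.map (homOfLE v.2).op (OmegaSh.Der.app ((OmegaSh.dOmega x).postcomp ψ.val) W s) =
        (DerFam.ofDer ((OmegaSh.dOmega x).postcomp ψ.val)).app v.1 le_top (X.presheaf.map (homOfLE v.2).op s) :=
    fun ψ => (((OmegaSh.dOmega x).postcomp ψ.val).d_map (homOfLE v.2).op s).symm
  exact (key α).trans ((hcon _ _ _).trans ((hcon _ _ _).symm.trans (key β).symm))

end Groth.Agent.DefSm85
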