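import Groth.Agent.Hilb85.LiftAlg
import Mathlib.Tactic.LinearCombination

/-!
Differences of two algebra maps into a flat algebra which agree modulo a small ideal.
-/

set_option autoImplicit false
set_option linter.style.haveILetI false
set_option linter.unusedSectionVars false
universe u

open Groth.Agent.Hilb85 LiftAlg

namespace Groth.Agent.DefSm85

variable {A' S T B₀ ι : Type u} [CommRing A'] [CommRing S] [CommRing T] [CommRing B₀] [Algebra A' S]
  [Algebra A' T] [Fintype ι] {J m : Ideal A'} {e : ι → A'} {rS : S →+* B₀} {rT : T →+* B₀}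

/-- In a flat algebra a relation among the `e i` has coefficients killed by the reduction. -/
theorem coeff_zero [Module.Flat A' T] (h : Small J m e) (hr : IsRed m rT) {b : ι → T} (hb : comb e b = 0) (i : ι) :
    rT (b i) = 0 := by
  have hI : IsLift rT (⊥ : Ideal B₀) A' (⊥ : Ideal T) :=
    ⟨Module.Flat.of_linearEquiv (AlgEquiv.quotientBot A' T).toLinearEquiv, Ideal.map_bot⟩
  exact hI.coeff_mem h hr (b := b) (by rw [hb]; exact Ideal.zero_mem _) i

theorem comb_eq_zero (h : Small J m e) (hr : IsRed m rT) {b : ι → T} (hb : ∀ i, rT (b i) = 0) : comb e b = 0 :=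
  Finset.sum_eq_zero fun i _ => h.smul_eq_zero i (hr.ker ▸ RingHom.mem_ker.2 (hb i))

theorem comb_congr (h : Small J m e) (hr : IsRed m rT) {b c : ι → T} (hbc : ∀ i, rT (b i) = rT (c i)) :
    comb e b = comb e c := by
  rw [← sub_eq_zero, ← comb_sub]
  exact comb_eq_zero h hr fun i => by rw [Pi.sub_apply, map_sub, hbc, sub_self]

theorem red_comb (h : Small J m e) (hr : IsRed m rT) (b : ι → T) : rT (comb e b) = 0 :=
  RingHom.mem_ker.1 (map_le_ker h hr (h.comb_mem_map b))

theorem comb_mul_comb (h : Small J m e) (hr : IsRed m rT) (b c : ι → T) : comb e b * comb e c = 0 := by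
  rw [mul_comb]
  exact comb_eq_zero h hr fun i => by rw [Pi.smul_apply, smul_eq_mul, map_mul, red_comb h hr, zero_mul]

/-- `d` is the difference `f - g`. -/
def IsHDiff (e : ι → A') (rS : S →+* B₀) (rT : T →+* B₀) (f g : S →+* T) (d : ι → B₀ → B₀) : Prop :=
  ∀ b, ∀ c : ι → T, (∀ i, rT (c i) = d i (rS b)) → f b - g b = comb e c

variable {f g g' : S →+* T} {d d' : ι → B₀ → B₀}

theorem IsHDiff.coeff_eq [Module.Flat A' T] (h : Small J m e) (hr : IsRed m rT) (hd : IsHDiff e rS rT f g d)
    {b : S} {c : ι → T} (hc : f b - g b = comb e c) (i : ι) : rT (c i) = d i (rS b) := by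
  choose c' hc' using fun i => hr.surjective (d i (rS b))
  have := coeff_zero h hr (b := c - c') (by rw [comb_sub, ← hc, hd b c' hc', sub_self]) i
  rwa [Pi.sub_apply, map_sub, hc', sub_eq_zero] at this

theorem IsHDiff.unique [Module.Flat A' T] (h : Small J m e) (hr : IsRed m rT) (hS : Function.Surjective rS)
    (hd : IsHDiff e rS rT f g d) (hd' : IsHDiff e rS rT f g d') : d = d' := by
  funext i z
  obtain ⟨b, rfl⟩ := hS z
  choose c hc using fun i => hr.surjective (d' i (rS b))
  rw [← hc i, hd.coeff_eq h hr (hd' b c hc) i]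

theorem IsHDiff.self (h : Small J m e) (hr : IsRed m rT) : IsHDiff e rS rT f f 0 := fun b c hc => by
  rw [sub_self, comb_eq_zero h hr hc]

theorem IsHDiff.trans (h : Small J m e) (hr : IsRed m rT) (hd : IsHDiff e rS rT f g d)
    (hd' : IsHDiff e rS rT g g' d') : IsHDiff e rS rT f g' (d + d') := fun b c hc => by
  choose c₁ hc₁ using fun i => hr.surjective (d i (rS b))
  rw [show c = c₁ + (c - c₁) by abel, comb_add, ← hd b c₁ hc₁,
    ← hd' b (c - c₁) (fun i => by rw [Pi.sub_apply, map_sub, hc, hc₁]; simp)]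
  ring

theorem IsHDiff.eq_of_zero (hr : IsRed m rT) (hd : IsHDiff e rS rT f g d) (h0 : ∀ i z, d i z = 0) : f = g :=
  RingHom.ext fun b => by
    rw [← sub_eq_zero, hd b 0 fun i => by rw [h0, Pi.zero_apply, map_zero]]
    simp [comb]

theorem exists_isHDiff [Module.Flat A' T] (h : Small J m e) (hr : IsRed m rT) (hS : IsRed m rS)
    (hf : ∀ a, f (algebraMap A' S a) = algebraMap A' T a) (hg : ∀ a, g (algebraMap A' S a) = algebraMap A' T a)
    (hfr : rT.comp f = rS) (hfg : ∀ b, f b - g b ∈ J.map (algebraMap A' T)) :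
    ∃ d : ι → B₀ → B₀, IsHDiff e rS rT f g d ∧ (∀ i z w, d i (z + w) = d i z + d i w) ∧
      (∀ i z w, d i (z * w) = z * d i w + w * d i z) ∧ ∀ i a, d i (rS (algebraMap A' S a)) = 0 := by
  choose c hc using fun b => h.exists_comb (hfg b)
  have hfr' : ∀ b, rT (f b) = rS b := fun b => RingHom.congr_fun hfr b
  have hgr : ∀ b, rT (g b) = rS b := fun b => by
    rw [← hfr', ← sub_eq_zero, ← map_sub, ← neg_sub, map_neg, hc, red_comb h hr, neg_zero]
  have hzero : ∀ b, rS b = 0 → f b = g b := fun b hb => by
    have hb' : b ∈ m.map (algebraMap A' S) := hS.ker ▸ RingHom.mem_ker.2 hb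
    induction hb' using Submodule.span_induction with
    | mem z hz =>
      obtain ⟨a, -, rfl⟩ := hz
      rw [hf, hg]
    | zero => rw [map_zero, map_zero]
    | add u v hu hv ihu ihv =>
      rw [map_add, map_add, ihu (RingHom.mem_ker.1 (hS.ker.ge hu)), ihv (RingHom.mem_ker.1 (hS.ker.ge hv))]
    | smul s u hu ihu =>
      have hu0 := RingHom.mem_ker.1 (hS.ker.ge hu)
      rw [smul_eq_mul, map_mul, map_mul, ihu hu0, ← sub_eq_zero, ← sub_mul, hc, mul_comm, mul_comb]
      exact comb_eq_zero h hr fun i => by rw [Pi.smul_apply, smul_eq_mul, map_mul, hgr, hu0, zero_mul]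
  have key : ∀ b b' c', rS b = rS b' → f b' - g b' = comb e c' → ∀ i, rT (c b i) = rT (c' i) :=
    fun b b' c' hbb hc' i => by
      have h2 := hzero (b - b') (by rw [map_sub, hbb, sub_self])
      rw [map_sub, map_sub, sub_eq_sub_iff_sub_eq_sub, hc, hc', ← sub_eq_zero, ← comb_sub] at h2
      have := coeff_zero h hr h2 i
      rwa [Pi.sub_apply, map_sub, sub_eq_zero] at this
  let l := Function.surjInv hS.surjective
  let d : ι → B₀ → B₀ := fun i z => rT (c (l z) i)
  have hd : ∀ b c', f b - g b = comb e c' → ∀ i, d i (rS b) = rT (c' i) := fun b c' hc' =>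
    key _ b c' (Function.surjInv_eq hS.surjective _) hc'
  refine ⟨d, fun b c' hc' => ?_, fun i z w => ?_, fun i z w => ?_, fun i a => ?_⟩
  · rw [hc b]
    exact comb_congr h hr fun i => by rw [hc', hd b _ (hc b)]
  · obtain ⟨b, rfl⟩ := hS.surjective z
    obtain ⟨b', rfl⟩ := hS.surjective w
    rw [hd b _ (hc b), hd b' _ (hc b'), ← map_add rS, hd (b + b') (c b + c b'), Pi.add_apply, map_add]
    rw [comb_add, ← hc, ← hc, map_add, map_add]
    ring
  · obtain ⟨b, rfl⟩ := hS.surjective z
    obtain ⟨b', rfl⟩ := hS.surjective w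
    rw [hd b _ (hc b), hd b' _ (hc b'), ← map_mul rS, hd (b * b') (f b • c b' + g b' • c b), Pi.add_apply,
      Pi.smul_apply, Pi.smul_apply, map_add, smul_eq_mul, smul_eq_mul, map_mul, map_mul, hfr', hgr]
    rw [comb_add, ← mul_comb, ← mul_comb, ← hc, ← hc, map_mul, map_mul]
    ring
  · rw [hd _ 0 (by rw [hf, hg, sub_self]; simp [comb]), Pi.zero_apply, map_zero]

theorem exists_twist (h : Small J m e) (hr : IsRed m rT) (g : S →+* T) (hgr : rT.comp g = rS)
    (d : ι → B₀ → B₀) (hadd : ∀ i z w, d i (z + w) = d i z + d i w)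
    (hmul : ∀ i z w, d i (z * w) = z * d i w + w * d i z) :
    ∃ f : S →+* T, IsHDiff e rS rT f g d ∧ (∀ b, f b - g b ∈ J.map (algebraMap A' T)) ∧
      ∀ b, (∀ i, d i (rS b) = 0) → f b = g b := by
  choose c hc using fun (b : S) i => hr.surjective (d i (rS b))
  have h0 : ∀ i, d i 0 = 0 := fun i => by
    have := hadd i 0 0
    rw [add_zero] at this
    exact left_eq_add.1 this
  have h1 : ∀ i, d i 1 = 0 := fun i => by
    have := hmul i 1 1
    rw [one_mul, one_mul] at this
    exact left_eq_add.1 this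
  have hgr' : ∀ b, rT (g b) = rS b := fun b => RingHom.congr_fun hgr b
  let f : S →+* T :=
    { toFun := fun b => g b + comb e (c b)
      map_one' := by
        rw [map_one, comb_eq_zero h hr fun i => by rw [hc, map_one, h1], add_zero]
      map_mul' := fun a b => by
        have h2 : comb e (c (a * b)) = comb e (g a • c b + g b • c a) := comb_congr h hr fun i => by
          rw [hc, map_mul, hmul, Pi.add_apply, Pi.smul_apply, Pi.smul_apply, smul_eq_mul, smul_eq_mul, map_add,
            map_mul, map_mul, hgr', hgr', hc, hc]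
        rw [h2, comb_add, ← mul_comb, ← mul_comb, map_mul]
        linear_combination -(comb_mul_comb h hr (c a) (c b))
      map_zero' := by
        rw [map_zero, comb_eq_zero h hr fun i => by rw [hc, map_zero, h0], add_zero]
      map_add' := fun a b => by
        have h2 : comb e (c (a + b)) = comb e (c a + c b) := comb_congr h hr fun i => by
          rw [hc, map_add, hadd, Pi.add_apply, map_add, hc, hc]
        rw [h2, comb_add, map_add]
        ring }
  refine ⟨f, fun b c' hc' => ?_, fun b => ?_, fun b hb => ?_⟩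
  · show g b + comb e (c b) - g b = comb e c'
    rw [add_sub_cancel_left]
    exact comb_congr h hr fun i => by rw [hc, hc']
  · show g b + comb e (c b) - g b ∈ _
    rw [add_sub_cancel_left]
    exact h.comb_mem_map _
  · show g b + comb e (c b) = g b
    rw [comb_eq_zero h hr fun i => by rw [hc, hb], add_zero]

/-- Composition with a map on the left. -/
theorem IsHDiff.comp_left {U : Type u} [CommRing U] [Algebra A' U] {rU : U →+* B₀} (h : Small J m e)
    (hr : IsRed m rT) (hU : IsRed m rU) (w : T →+* U) (hw : ∀ a, w (algebraMap A' T a) = algebraMap A' U a)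
    (hwr : rU.comp w = rT) (hd : IsHDiff e rS rT f g d) : IsHDiff e rS rU (w.comp f) (w.comp g) d := fun b c hc => by
  choose c' hc' using fun i => hr.surjective (d i (rS b))
  rw [RingHom.comp_apply, RingHom.comp_apply, ← map_sub, hd b c' hc', comb, map_sum]
  refine Eq.trans (Finset.sum_congr rfl fun i _ => ?_) (comb_congr h hU (b := fun i => w (c' i))
    fun i => (RingHom.congr_fun hwr (c' i)).trans ((hc' i).trans (hc i).symm))
  rw [Algebra.smul_def, map_mul, hw, ← Algebra.smul_def]

/-- Composition with a map on the right. -/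
theorem IsHDiff.comp_right {U : Type u} [CommRing U] {rU : U →+* B₀} (w : U →+* S) (hwr : rS.comp w = rU)
    (hd : IsHDiff e rS rT f g d) : IsHDiff e rU rT (f.comp w) (g.comp w) d := fun b c hc =>
  hd (w b) c fun i => by rw [hc, ← hwr, RingHom.comp_apply]

end Groth.Agent.DefSm85
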