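import Groth.Agent.DefSm85.Chart
import Groth.Agent.Hilb85.Torsor
import Groth.Agent.DefSm85.HomAlg
import Groth.Agent.Def38.Arrow

/-!
Extensions of a deformation along a small extension, and local extensions.
-/

set_option autoImplicit false
set_option linter.style.haveILetI false
set_option backward.isDefEq.respectTransparency false
universe u

open CategoryTheory CategoryTheory.Limits AlgebraicGeometry TopologicalSpace Opposite
open ArtFun ArtFun.Art

noncomputable section

namespace Groth.Agent.DefSm85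

open Hilb85

variable {k : Type u} [Field k] {X : Scheme.{u}} {x : X ⟶ specPt k} {C' C : Art k k} {p : C' ⟶ C}
  {𝒳 : DefSch X x C}

/-- An extension of a deformation. -/
structure Ext (p : C' ⟶ C) (𝒳 : DefSch X x C) : Type (u + 1) where
  /-- the deformation -/
  tot : DefSch X x C'
  /-- its restriction -/
  arr : Def38.Arrow p tot 𝒳

theorem Ext.le_preimage (E : Ext p 𝒳) (V : X.Opens) : up 𝒳 V ≤ E.arr.hom ⁻¹ᵁ up E.tot V := by
  rintro _ ⟨q, hq, rfl⟩
  exact ⟨q, hq, (congrArg (fun g : X ⟶ E.tot.total => g.base q) E.arr.i_hom).symm⟩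

theorem Ext.preimage_eq (E : Ext p 𝒳) (V : X.Opens) : E.arr.hom ⁻¹ᵁ up E.tot V = up 𝒳 V := by
  refine le_antisymm ?_ (E.le_preimage V)
  intro z hz
  obtain ⟨q, rfl⟩ := 𝒳.i.surjective z
  obtain ⟨q', hq', hqq⟩ := hz
  have := congrArg (fun g : X ⟶ E.tot.total => g.base q) E.arr.i_hom
  obtain rfl : q' = q := E.tot.i.isClosedEmbedding.injective (hqq.trans this)
  exact ⟨q', hq', rfl⟩

/-- The restriction on a chart. -/
def Ext.γ (E : Ext p 𝒳) (V : X.affineOpens) : sect E.tot V →+* sect 𝒳 V :=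
  (E.arr.hom.appLE (up E.tot V.1) (up 𝒳 V.1) (E.le_preimage V.1)).hom

theorem Ext.γ_algebraMap (E : Ext p 𝒳) (V : X.affineOpens) (a : C'.carrier) :
    E.γ V (algebraMap C'.carrier (sect E.tot V) a) = algebraMap C.carrier (sect 𝒳 V) (p a) :=
  Hilb85.appLE_baseMap (φ := CommRingCat.ofHom p.toAlgHom.toRingHom) E.arr.isPullback.w _ _ _ a

theorem Ext.red_γ (E : Ext p 𝒳) (V : X.affineOpens) (b : sect E.tot V) :
    red 𝒳 V (E.γ V b) = red E.tot V b := by
  show (E.arr.hom.appLE _ _ _ ≫ 𝒳.i.appLE _ _ _) b = E.tot.i.appLE _ _ _ b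
  rw [Scheme.Hom.appLE_comp_appLE]
  simp only [E.arr.i_hom]

theorem Ext.resC_γ (E : Ext p 𝒳) {U V : X.affineOpens} (h : V.1 ≤ U.1) (b : sect E.tot U) :
    resC 𝒳 h (E.γ U b) = E.γ V (resC E.tot h b) := by
  show (E.arr.hom.appLE _ _ _ ≫ 𝒳.total.presheaf.map _) b = (E.tot.total.presheaf.map _ ≫ E.arr.hom.appLE _ _ _) b
  rw [Scheme.Hom.appLE_map, Scheme.Hom.map_appLE]

theorem semismall_le : RingHom.ker p.toAlgHom ≤ IsLocalRing.maximalIdeal C'.carrier :=
  IsLocalRing.le_maximalIdeal (RingHom.ker_ne_top _)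

/-- The reduction of a chart is a reduction modulo the maximal ideal. -/
theorem isRed_red {A : Art k k} (ξ : DefSch X x A) (V : X.affineOpens) :
    LiftAlg.IsRed (IsLocalRing.maximalIdeal A.carrier) (red ξ V) := ⟨red_surjective ξ V, ker_red ξ V⟩

/-- An extension of a deformation over an open of the closed fibre, chart by chart. -/
structure Loc (p : C' ⟶ C) (𝒳 : DefSch X x C) (P : X.Opens) : Type (u + 1) where
  /-- a deformation supplying the charts -/
  tot : DefSch X x C'
  /-- the comparison maps -/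
  γ : ∀ V : X.affineOpens, V.1 ≤ P → (sect tot V →+* sect 𝒳 V)
  γ_algebraMap : ∀ V hV a, γ V hV (algebraMap C'.carrier (sect tot V) a) = algebraMap C.carrier (sect 𝒳 V) (p a)
  red_γ : ∀ V hV b, red 𝒳 V (γ V hV b) = red tot V b
  resC_γ : ∀ {U V : X.affineOpens} (hU : U.1 ≤ P) (h : V.1 ≤ U.1) b,
    resC 𝒳 h (γ U hU b) = γ V (h.trans hU) (resC tot h b)

/-- An extension is a local extension everywhere. -/
@[simps]
def Ext.toLoc (E : Ext p 𝒳) : Loc p 𝒳 ⊤ where
  tot := E.tot
  γ V _ := E.γ V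
  γ_algebraMap V _ := E.γ_algebraMap V
  red_γ V _ := E.red_γ V
  resC_γ _ h := E.resC_γ h

namespace Loc

variable {P Q : X.Opens}

/-- Restriction. -/
@[simps]
def mono (h : Q ≤ P) (E : Loc p 𝒳 P) : Loc p 𝒳 Q where
  tot := E.tot
  γ V hV := E.γ V (hV.trans h)
  γ_algebraMap V hV := E.γ_algebraMap V (hV.trans h)
  red_γ V hV := E.red_γ V (hV.trans h)
  resC_γ hU h' := E.resC_γ (hU.trans h) h'

variable (E : Loc p 𝒳 P) (hp : IsSemismallExt p) (V : X.affineOpens) (hV : V.1 ≤ P)

include hp in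
theorem γ_surjective : Function.Surjective (E.γ V hV) := by
  let m := IsLocalRing.maximalIdeal C.carrier
  obtain ⟨n, hn⟩ : IsNilpotent m := by
    show IsNilpotent (IsLocalRing.maximalIdeal C.carrier)
    rw [← IsLocalRing.jacobson_eq_maximalIdeal (⊥ : Ideal C.carrier) bot_ne_top]
    exact IsArtinianRing.isNilpotent_jacobson_bot
  have h1 : ∀ s : sect 𝒳 V, ∃ b, s - E.γ V hV b ∈ m.map (algebraMap C.carrier (sect 𝒳 V)) := fun s => by
    obtain ⟨b, hb⟩ := red_surjective E.tot V (red 𝒳 V s)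
    exact ⟨b, (ker_red 𝒳 V).le (show red 𝒳 V _ = 0 by rw [map_sub, E.red_γ, hb, sub_self])⟩
  have h2 : ∀ (j : ℕ) (s : sect 𝒳 V), ∃ b, s - E.γ V hV b ∈ (m ^ j).map (algebraMap C.carrier (sect 𝒳 V)) := by
    intro j
    induction j with
    | zero => exact fun s => ⟨0, by rw [pow_zero, Ideal.one_eq_top, Ideal.map_top]; exact Submodule.mem_top⟩
    | succ j ih =>
      intro s
      obtain ⟨b, hb⟩ := ih s
      suffices ∀ t ∈ (m ^ j).map (algebraMap C.carrier (sect 𝒳 V)),
          ∃ b, t - E.γ V hV b ∈ (m ^ (j + 1)).map (algebraMap C.carrier (sect 𝒳 V)) by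
        obtain ⟨b', hb'⟩ := this _ hb
        exact ⟨b + b', by rw [map_add, ← sub_sub]; exact hb'⟩
      intro t ht
      induction ht using Submodule.span_induction with
      | zero => exact ⟨0, by simp⟩
      | add u v _ _ hu hv =>
        obtain ⟨bu, hbu⟩ := hu
        obtain ⟨bv, hbv⟩ := hv
        exact ⟨bu + bv, by
          rw [map_add, show u + v - (E.γ V hV bu + E.γ V hV bv) = (u - E.γ V hV bu) + (v - E.γ V hV bv) by ring]
          exact add_mem hbu hbv⟩
      | mem z hz =>
        obtain ⟨c, -, rfl⟩ := hz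
        obtain ⟨c', rfl⟩ := hp.1 c
        exact ⟨algebraMap _ _ c', by rw [E.γ_algebraMap, sub_self]; exact zero_mem _⟩
      | smul r z hz ih' =>
        obtain ⟨bz, hbz⟩ := ih'
        obtain ⟨br, hbr⟩ := h1 r
        refine ⟨br * bz, ?_⟩
        rw [smul_eq_mul, map_mul,
          show r * z - E.γ V hV br * E.γ V hV bz = (r - E.γ V hV br) * z + E.γ V hV br * (z - E.γ V hV bz) by ring]
        refine add_mem ?_ (Ideal.mul_mem_left _ _ hbz)
        rw [pow_succ', Ideal.map_mul]
        exact Ideal.mul_mem_mul hbr hz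
  intro s
  obtain ⟨b, hb⟩ := h2 n s
  rw [hn, Ideal.zero_eq_bot, Ideal.map_bot, Ideal.mem_bot, sub_eq_zero] at hb
  exact ⟨b, hb.symm⟩

include hp in
theorem ker_γ : RingHom.ker (E.γ V hV) = (RingHom.ker p.toAlgHom).map (algebraMap C'.carrier (sect E.tot V)) := by
  refine le_antisymm (fun b hb => ?_) (Ideal.map_le_iff_le_comap.2 fun a ha => ?_)
  swap
  · show E.γ V hV (algebraMap C'.carrier (sect E.tot V) a) = 0
    rw [E.γ_algebraMap, show p a = 0 from ha, map_zero]
  have key : ∀ I : Ideal C.carrier, b ∈ (I.comap p.toAlgHom).map (algebraMap C'.carrier (sect E.tot V)) →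
      b ∈ (RingHom.ker p.toAlgHom).map (algebraMap C'.carrier (sect E.tot V)) := by
    intro I
    induction I using WellFoundedLT.induction with
    | ind I ih =>
      intro hI
      by_cases hbot : I = ⊥
      · subst hbot
        exact hI
      obtain ⟨I', t, hlt, ht, hsup, hmt⟩ := exists_step hbot
      obtain ⟨t', rfl⟩ := hp.1 t
      have hcom : I.comap p.toAlgHom ≤ I'.comap p.toAlgHom ⊔ Ideal.span {t'} := by
        intro a ha
        obtain ⟨z, hz, w, hw, hzw⟩ := Submodule.mem_sup.1 (hsup.ge (show p a ∈ I from ha))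
        obtain ⟨c, rfl⟩ := Ideal.mem_span_singleton'.1 hw
        obtain ⟨c', rfl⟩ := hp.1 c
        refine Submodule.mem_sup.2 ⟨a - c' * t', ?_, c' * t', Ideal.mem_span_singleton'.2 ⟨c', rfl⟩, sub_add_cancel _ _⟩
        show p.toAlgHom (a - c' * t') ∈ I'
        rw [map_sub, map_mul]
        have : p a - p c' * p t' = z := by rw [← hzw]; ring
        exact this.symm ▸ hz
      have hI' := Ideal.map_mono hcom hI
      rw [Ideal.map_sup, Ideal.map_span, Set.image_singleton] at hI'
      obtain ⟨j, hj, w, hw, rfl⟩ := Submodule.mem_sup.1 hI'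
      obtain ⟨r, rfl⟩ := Ideal.mem_span_singleton'.1 hw
      have hj' : E.γ V hV j ∈ I'.map (algebraMap C.carrier (sect 𝒳 V)) := by
        have h := Ideal.mem_map_of_mem (E.γ V hV) hj
        rw [Ideal.map_map, show (E.γ V hV).comp (algebraMap C'.carrier (sect E.tot V)) =
          (algebraMap C.carrier (sect 𝒳 V)).comp p.toAlgHom.toRingHom from RingHom.ext (E.γ_algebraMap V hV),
          ← Ideal.map_map] at h
        exact Ideal.map_mono Ideal.map_comap_le h
      have hr : r ∈ (IsLocalRing.maximalIdeal C'.carrier).map (algebraMap C'.carrier (sect E.tot V)) := by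
        rw [← ker_red, RingHom.mem_ker, ← E.red_γ V hV, ← RingHom.mem_ker, ker_red]
        refine mem_of_mul_mem ht hmt ?_
        have hb' : E.γ V hV j + E.γ V hV r * algebraMap C.carrier (sect 𝒳 V) (p t') = 0 := by
          rw [← E.γ_algebraMap V hV t', ← map_mul, ← map_add]
          exact hb
        rw [mul_comm, eq_neg_of_add_eq_zero_right hb']
        exact neg_mem hj'
      refine ih I' hlt ?_
      refine add_mem hj ?_
      have h := Ideal.mul_mem_mul hr
        (Ideal.mem_map_of_mem (algebraMap C'.carrier (sect E.tot V)) (Ideal.mem_span_singleton_self t'))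
      rw [← Ideal.map_mul] at h
      refine Ideal.map_mono (Ideal.mul_le.2 fun a ha c hc => ?_) h
      obtain ⟨d, rfl⟩ := Ideal.mem_span_singleton'.1 hc
      show p.toAlgHom (a * (d * t')) ∈ I'
      rw [map_mul, map_mul, ← mul_assoc, mul_comm (p.toAlgHom a), mul_assoc]
      refine Ideal.mul_mem_left _ _ (hmt _ ?_)
      exact (mem_maximalIdeal_iff C _).2 ((congr($(p.res_comp) a) : C.res (p.toAlgHom a) = C'.res a).trans
        ((mem_maximalIdeal_iff C' a).1 ha))
  refine key (IsLocalRing.maximalIdeal C.carrier) (Ideal.map_mono (fun a ha => ?_)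
    ((ker_red E.tot V).le (show red E.tot V b = 0 by rw [← E.red_γ V hV, show E.γ V hV b = 0 from hb, map_zero])))
  exact (mem_maximalIdeal_iff C _).2 ((congr($(p.res_comp) a) : C.res (p.toAlgHom a) = C'.res a).trans
        ((mem_maximalIdeal_iff C' a).1 ha))

include hp in
theorem ker_γ_sq : RingHom.ker (E.γ V hV) ^ 2 = ⊥ := by
  rw [E.ker_γ hp, ← Ideal.map_pow, le_bot_iff.1 (((pow_two (RingHom.ker p.toAlgHom)).le.trans
    (Ideal.mul_mono_left semismall_le)).trans (le_of_eq hp.2)), Ideal.map_bot]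

end Loc

end Groth.Agent.DefSm85
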