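import Groth.Agent.DefSm85.Chart
import Groth.Agent.DefSm85.Loc
import Groth.Agent.DefSm85.Der
import Groth.Agent.Deform85.AffineTriv
import Mathlib.AlgebraicGeometry.Morphisms.Etale
import Mathlib.AlgebraicGeometry.Morphisms.Smooth

/-!
Chartwise maps between local extensions.
-/

set_option autoImplicit false
set_option linter.style.haveILetI false
set_option backward.isDefEq.respectTransparency false
universe u

open CategoryTheory CategoryTheory.Limits AlgebraicGeometry TopologicalSpace Opposite TensorProduct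
open ArtFun ArtFun.Art

noncomputable section

namespace Groth.Agent.DefSm85

open Hilb85

/-- A lift through a surjection with square-zero kernel along a formally étale algebra. -/
theorem exists_lift_etale {R S T T₀ : Type u} [CommRing R] [CommRing S] [CommRing T] [CommRing T₀] (u : R →+* S)
    (hu : u.FormallyEtale) (g : R →+* T) (q : T →+* T₀) (hq : Function.Surjective q) (hq2 : RingHom.ker q ^ 2 = ⊥)
    (h₀ : S →+* T₀) (hc : h₀.comp u = q.comp g) : ∃! h : S →+* T, h.comp u = g ∧ q.comp h = h₀ := by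
  letI := u.toAlgebra
  letI := g.toAlgebra
  letI : Algebra R T₀ := (q.comp g).toAlgebra
  haveI : Algebra.FormallyEtale R S := hu
  let Q : T →ₐ[R] T₀ := { q with commutes' := fun _ => rfl }
  let H₀ : S →ₐ[R] T₀ := { h₀ with commutes' := fun r => RingHom.congr_fun hc r }
  have hQ : Function.Surjective Q := hq
  have hnil : IsNilpotent (RingHom.ker (Q : T →+* T₀)) := ⟨2, hq2⟩
  refine ⟨(Algebra.FormallySmooth.liftOfSurjective H₀ Q hQ hnil).toRingHom, ⟨?_, ?_⟩, ?_⟩
  · exact RingHom.ext fun r => (Algebra.FormallySmooth.liftOfSurjective H₀ Q hQ hnil).commutes r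
  · exact congrArg AlgHom.toRingHom (Algebra.FormallySmooth.comp_liftOfSurjective H₀ Q hQ hnil)
  · rintro h ⟨h1, h2⟩
    let H : S →ₐ[R] T := { h with commutes' := fun r => RingHom.congr_fun h1 r }
    have : H = Algebra.FormallySmooth.liftOfSurjective H₀ Q hQ hnil := by
      apply Algebra.FormallyUnramified.comp_injective (RingHom.ker (Q : T →+* T₀)) hq2
      refine AlgHom.ext fun s => ?_
      show Ideal.Quotient.mk _ (H s) = Ideal.Quotient.mk _ (Algebra.FormallySmooth.liftOfSurjective H₀ Q hQ hnil s)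
      rw [Ideal.Quotient.eq, RingHom.mem_ker, map_sub]
      show q (h s) - Q _ = 0
      rw [show q (h s) = h₀ s from RingHom.congr_fun h2 s]
      exact sub_eq_zero.2 (AlgHom.congr_fun (Algebra.FormallySmooth.comp_liftOfSurjective H₀ Q hQ hnil) s).symm
    exact congrArg AlgHom.toRingHom this

variable {k : Type u} [Field k] {X : Scheme.{u}} {x : X ⟶ specPt k} {C' C : Art k k} {p : C' ⟶ C}
  {𝒳 : DefSch X x C}

/-- Compatible chartwise maps from `E₂` to `E₁` over an open of the closed fibre. -/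
@[ext]
structure CHom {P : X.Opens} (E₁ E₂ : Loc p 𝒳 P) : Type u where
  /-- the maps -/
  app : ∀ V : X.affineOpens, V.1 ≤ P → (sect E₂.tot V →+* sect E₁.tot V)
  app_algebraMap : ∀ V hV a, app V hV (algebraMap C'.carrier (sect E₂.tot V) a) =
    algebraMap C'.carrier (sect E₁.tot V) a
  γ_app : ∀ V hV b, E₁.γ V hV (app V hV b) = E₂.γ V hV b
  res_app : ∀ {U V : X.affineOpens} (hU : U.1 ≤ P) (h : V.1 ≤ U.1) b,
    app V (h.trans hU) (resC E₂.tot h b) = resC E₁.tot h (app U hU b)

namespace CHom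

variable {P Q : X.Opens} {E₁ E₂ E₃ : Loc p 𝒳 P}

theorem red_app (f : CHom E₁ E₂) (V : X.affineOpens) (hV : V.1 ≤ P) :
    (red E₁.tot V).comp (f.app V hV) = red E₂.tot V :=
  RingHom.ext fun b => by rw [RingHom.comp_apply, ← E₁.red_γ V hV, f.γ_app, E₂.red_γ]

/-- The identity. -/
def id (E : Loc p 𝒳 P) : CHom E E where
  app V _ := RingHom.id _
  app_algebraMap _ _ _ := rfl
  γ_app _ _ _ := rfl
  res_app _ _ _ := rfl

/-- Composition. -/
def comp (f : CHom E₁ E₂) (g : CHom E₂ E₃) : CHom E₁ E₃ where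
  app V hV := (f.app V hV).comp (g.app V hV)
  app_algebraMap V hV a := by rw [RingHom.comp_apply, g.app_algebraMap, f.app_algebraMap]
  γ_app V hV b := by rw [RingHom.comp_apply, f.γ_app, g.γ_app]
  res_app {U V} hU h b := by rw [RingHom.comp_apply, g.res_app hU h, f.res_app hU h, RingHom.comp_apply]

/-- Restriction. -/
def mono (h : Q ≤ P) (f : CHom E₁ E₂) : CHom (E₁.mono h) (E₂.mono h) where
  app V hV := f.app V (hV.trans h)
  app_algebraMap V hV := f.app_algebraMap V (hV.trans h)
  γ_app V hV := f.γ_app V (hV.trans h)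
  res_app {U V} hU h' := f.res_app (hU.trans h) h'

@[simp] theorem comp_app (f : CHom E₁ E₂) (g : CHom E₂ E₃) (V : X.affineOpens) (hV : V.1 ≤ P) :
    (f.comp g).app V hV = (f.app V hV).comp (g.app V hV) := rfl

@[simp] theorem id_app (E : Loc p 𝒳 P) (V : X.affineOpens) (hV : V.1 ≤ P) : (id E).app V hV = RingHom.id _ := rfl

@[simp] theorem mono_app (h : Q ≤ P) (f : CHom E₁ E₂) (V : X.affineOpens) (hV : V.1 ≤ Q) :
    (f.mono h).app V hV = f.app V (hV.trans h) := rfl

variable (hp : IsSemismallExt p)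

include hp in
theorem bijective (f : CHom E₁ E₂) (V : X.affineOpens) (hV : V.1 ≤ P) : Function.Bijective (f.app V hV) := by
  obtain ⟨ι, hι, e, he, -⟩ := exists_coords p hp
  have hr₁ := isRed_red E₁.tot V
  have hr₂ := isRed_red E₂.tot V
  have hcomb : ∀ c, f.app V hV (LiftAlg.comb e c) = LiftAlg.comb e fun i => f.app V hV (c i) := fun c => by
    simp [LiftAlg.comb, Algebra.smul_def, f.app_algebraMap]
  refine ⟨(injective_iff_map_eq_zero _).2 fun b hb => ?_, fun t => ?_⟩
  · obtain ⟨c, rfl⟩ := he.exists_comb (B' := sect E₂.tot V)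
      ((E₂.ker_γ hp V hV).le (show E₂.γ V hV b = 0 by rw [← f.γ_app V hV, hb, map_zero]))
    rw [hcomb] at hb
    refine comb_eq_zero he hr₂ fun i => ?_
    rw [← RingHom.congr_fun (f.red_app V hV)]
    exact coeff_zero he hr₁ hb i
  · obtain ⟨b, hb⟩ := E₂.γ_surjective hp V hV (E₁.γ V hV t)
    obtain ⟨c, hc⟩ := he.exists_comb (B' := sect E₁.tot V) (x := t - f.app V hV b)
      ((E₁.ker_γ hp V hV).le (show E₁.γ V hV _ = 0 by rw [map_sub, f.γ_app, hb, sub_self]))
    choose c' hc' using fun i => hr₂.surjective (red E₁.tot V (c i))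
    refine ⟨b + LiftAlg.comb e c', ?_⟩
    rw [map_add, hcomb, comb_congr he hr₁ (c := c) fun i =>
      (RingHom.congr_fun (f.red_app V hV) (c' i)).trans (hc' i), ← hc]
    ring

include hp in
theorem exists_inverse (f : CHom E₁ E₂) :
    ∃ g : CHom E₂ E₁, f.comp g = id E₁ ∧ g.comp f = id E₂ := by
  let e := fun V hV => RingEquiv.ofBijective (f.app V hV) (f.bijective hp V hV)
  have hl : ∀ V hV t, f.app V hV ((e V hV).symm t) = t := fun V hV t => (e V hV).apply_symm_apply t
  refine ⟨{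
    app := fun V hV => (e V hV).symm.toRingHom
    app_algebraMap := fun V hV a => by
      apply (f.bijective hp V hV).1
      rw [f.app_algebraMap]
      exact hl V hV _
    γ_app := fun V hV b => by
      show E₂.γ V hV ((e V hV).symm b) = _
      rw [← f.γ_app V hV, hl]
    res_app := fun {U V} hU h b => by
      apply (f.bijective hp V (h.trans hU)).1
      show f.app V _ ((e V _).symm _) = f.app V _ (resC E₂.tot h ((e U hU).symm b))
      rw [hl, f.res_app hU h, hl] }, ?_, ?_⟩
  · exact CHom.ext (funext fun V => funext fun hV => RingHom.ext fun b => hl V hV b)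
  · exact CHom.ext (funext fun V => funext fun hV => RingHom.ext fun b => (e V hV).symm_apply_apply b)

end CHom

theorem formallyEtale_resC {A : Art k k} (ξ : DefSch X x A) {U V : X.affineOpens} (h : V.1 ≤ U.1) :
    (resC ξ h).FormallyEtale := by
  have hE := HasRingHomProperty.appLE @Etale (𝟙 ξ.total) inferInstance (upAff ξ U) (upAff ξ V) (up_mono ξ h)
  rw [show ((𝟙 ξ.total : ξ.total ⟶ ξ.total).appLE (upAff ξ U).1 (upAff ξ V).1 (up_mono ξ h)).hom = resC ξ h by
    simp [Scheme.Hom.appLE, resC]] at hE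
  letI := (resC ξ h).toAlgebra
  haveI : Algebra.Etale (sect ξ U) (sect ξ V) := hE
  exact (inferInstance : Algebra.FormallyEtale (sect ξ U) (sect ξ V))

variable [Smooth x] (hp : IsSemismallExt p)

theorem formallySmooth_scal (U : X.affineOpens) :
    letI := (scal x U.1).toAlgebra
    Algebra.FormallySmooth k Γ(X, U.1) := by
  letI := (scal x U.1).toAlgebra
  have h := HasRingHomProperty.appLE @Smooth x inferInstance ⟨⊤, isAffineOpen_top _⟩ U le_top
  have h2 : (scal x U.1).Smooth := by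
    refine RingHom.Smooth.comp ?_ h
    exact RingHom.Smooth.of_bijective (ConcreteCategory.bijective_of_isIso (Scheme.ΓSpecIso (CommRingCat.of k)).inv)
  haveI : Algebra.Smooth k Γ(X, U.1) := h2
  infer_instance

include hp in
theorem exists_chartMap {P : X.Opens} (E₁ E₂ : Loc p 𝒳 P) (U : X.affineOpens) (hU : U.1 ≤ P) :
    ∃ f : sect E₂.tot U →+* sect E₁.tot U, (∀ a, f (algebraMap C'.carrier _ a) = algebraMap C'.carrier _ a) ∧
      ∀ b, E₁.γ U hU (f b) = E₂.γ U hU b := by
  let B₀ := Γ(X, U.1)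
  letI : Algebra k B₀ := (scal x U.1).toAlgebra
  haveI := formallySmooth_scal (x := x) U
  letI : Algebra k (sect E₁.tot U) := ((algebraMap C'.carrier (sect E₁.tot U)).comp (algebraMap k C'.carrier)).toAlgebra
  letI : Algebra k (sect E₂.tot U) := ((algebraMap C'.carrier (sect E₂.tot U)).comp (algebraMap k C'.carrier)).toAlgebra
  letI : Algebra k (sect 𝒳 U) := ((algebraMap C.carrier (sect 𝒳 U)).comp (algebraMap k C.carrier)).toAlgebra
  haveI : IsScalarTower k C'.carrier (sect E₁.tot U) := IsScalarTower.of_algebraMap_eq fun _ => rfl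
  haveI : IsScalarTower k C'.carrier (sect E₂.tot U) := IsScalarTower.of_algebraMap_eq fun _ => rfl
  let r₂ : sect E₂.tot U →ₐ[k] B₀ := { red E₂.tot U with
    commutes' := fun c => (red_algebraMap E₂.tot U _).trans (congrArg (scal x U.1) (C'.res.commutes c)) }
  have hγ : ∀ (E : Loc p 𝒳 P) (c : k), E.γ U hU (algebraMap C'.carrier (sect E.tot U) (algebraMap k C'.carrier c)) =
      algebraMap C.carrier (sect 𝒳 U) (algebraMap k C.carrier c) := fun E c => by
    rw [E.γ_algebraMap]
    exact congrArg _ (p.toAlgHom.commutes c)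
  let g₁ : sect E₁.tot U →ₐ[k] sect 𝒳 U := { E₁.γ U hU with commutes' := hγ E₁ }
  let g₂ : sect E₂.tot U →ₐ[k] sect 𝒳 U := { E₂.γ U hU with commutes' := hγ E₂ }
  have hnil : IsNilpotent (RingHom.ker (r₂ : sect E₂.tot U →+* B₀)) := by
    show IsNilpotent (RingHom.ker (red E₂.tot U))
    rw [ker_red]
    obtain ⟨n, hn⟩ : IsNilpotent (IsLocalRing.maximalIdeal C'.carrier) := by
      rw [← IsLocalRing.jacobson_eq_maximalIdeal (⊥ : Ideal C'.carrier) bot_ne_top]
      exact IsArtinianRing.isNilpotent_jacobson_bot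
    exact ⟨n, by rw [← Ideal.map_pow, hn]; exact Ideal.map_bot⟩
  let σ : B₀ →ₐ[k] sect E₂.tot U :=
    Algebra.FormallySmooth.liftOfSurjective (AlgHom.id k B₀) r₂ (red_surjective E₂.tot U) hnil
  have hσ : ∀ z, r₂ (σ z) = z :=
    AlgHom.congr_fun (Algebra.FormallySmooth.comp_liftOfSurjective _ _ (red_surjective E₂.tot U) hnil)
  have hnil₁ : IsNilpotent (RingHom.ker (g₁ : sect E₁.tot U →+* sect 𝒳 U)) := ⟨2, E₁.ker_γ_sq hp U hU⟩
  let τ : B₀ →ₐ[k] sect E₁.tot U :=
    Algebra.FormallySmooth.liftOfSurjective (g₂.comp σ) g₁ (E₁.γ_surjective hp U hU) hnil₁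
  have hτ : ∀ z, g₁ (τ z) = g₂ (σ z) :=
    AlgHom.congr_fun (Algebra.FormallySmooth.comp_liftOfSurjective _ _ (E₁.γ_surjective hp U hU) hnil₁)
  let Ψ : C'.carrier ⊗[k] B₀ →ₐ[C'.carrier] sect E₂.tot U :=
    Algebra.TensorProduct.lift (Algebra.ofId C'.carrier _) σ fun _ _ => Commute.all _ _
  have hΨ : Function.Bijective Ψ :=
    Deform85.bijective_lift_of_section (Deform85.exists_residue C'.res) r₂ (red_surjective E₂.tot U)
      (ker_red E₂.tot U) σ hσ
  let F : C'.carrier ⊗[k] B₀ →ₐ[C'.carrier] sect E₁.tot U :=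
    Algebra.TensorProduct.lift (Algebra.ofId C'.carrier _) τ fun _ _ => Commute.all _ _
  let f : sect E₂.tot U →ₐ[C'.carrier] sect E₁.tot U := F.comp (AlgEquiv.ofBijective Ψ hΨ).symm.toAlgHom
  refine ⟨f.toRingHom, f.commutes, fun b => ?_⟩
  obtain ⟨z, rfl⟩ := hΨ.2 b
  have hfz : f (Ψ z) = F z := congrArg F ((AlgEquiv.ofBijective Ψ hΨ).symm_apply_apply z)
  show E₁.γ U hU (f (Ψ z)) = _
  rw [hfz]
  clear hfz
  induction z with
  | zero => simp
  | add u v hu hv => rw [map_add, map_add, hu, hv, ← map_add, ← map_add]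
  | tmul a z =>
    show E₁.γ U hU (algebraMap C'.carrier (sect E₁.tot U) a * τ z) =
      E₂.γ U hU (algebraMap C'.carrier (sect E₂.tot U) a * σ z)
    rw [map_mul, map_mul, E₁.γ_algebraMap, E₂.γ_algebraMap]
    exact congrArg _ (hτ z)

include hp in
/-- Chartwise maps exist over affine opens. -/
theorem exists_cHom (U : X.affineOpens) (E₁ E₂ : Loc p 𝒳 U.1) : Nonempty (CHom E₁ E₂) := by
  obtain ⟨f, hfa, hfγ⟩ := exists_chartMap hp E₁ E₂ U le_rfl
  have key : ∀ (V : X.affineOpens) (hV : V.1 ≤ U.1), ∃! h : sect E₂.tot V →+* sect E₁.tot V,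
      h.comp (resC E₂.tot hV) = (resC E₁.tot hV).comp f ∧ (E₁.γ V hV).comp h = E₂.γ V hV := fun V hV =>
    exists_lift_etale _ (formallyEtale_resC E₂.tot hV) _ _ (E₁.γ_surjective hp V hV) (E₁.ker_γ_sq hp V hV) _
      (RingHom.ext fun b => by
        simp only [RingHom.comp_apply]
        rw [← E₂.resC_γ le_rfl, ← hfγ, E₁.resC_γ le_rfl])
  choose h hh hu using key
  have hres : ∀ {U' V : X.affineOpens} (hU : U'.1 ≤ U.1) (hV : V.1 ≤ U'.1) (b : sect E₁.tot U),
      resC E₁.tot hV (resC E₁.tot hU b) = resC E₁.tot (hV.trans hU) b := fun hU hV b =>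
    res_struct (up_mono _ hU) (up_mono _ hV) b
  refine ⟨⟨h, fun V hV a => ?_, fun V hV b => RingHom.congr_fun (hh V hV).2 b, fun {U' V} hU hV b => ?_⟩⟩
  · rw [← resC_algebraMap E₂.tot hV]
    exact (RingHom.congr_fun (hh V hV).1 _).trans ((congrArg (resC E₁.tot hV) (hfa a)).trans (resC_algebraMap E₁.tot hV a))
  · have := exists_lift_etale _ (formallyEtale_resC E₂.tot hV) ((resC E₁.tot hV).comp (h U' hU)) _
      (E₁.γ_surjective hp V (hV.trans hU)) (E₁.ker_γ_sq hp V (hV.trans hU)) (E₂.γ V (hV.trans hU)) (RingHom.ext fun b => by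
        simp only [RingHom.comp_apply]
        rw [← E₂.resC_γ hU, ← E₁.resC_γ hU]
        exact congrArg _ (RingHom.congr_fun (hh U' hU).2 b).symm)
    obtain ⟨h', ⟨h1, h2⟩, -⟩ := this
    obtain rfl : h' = h V (hV.trans hU) := hu V (hV.trans hU) h' ⟨RingHom.ext fun c => by
      have e1 : resC E₂.tot (hV.trans hU) c = resC E₂.tot hV (resC E₂.tot hU c) :=
        (res_struct (up_mono _ hU) (up_mono _ hV) c).symm
      rw [RingHom.comp_apply, e1, ← RingHom.comp_apply h', h1, RingHom.comp_apply, ← RingHom.comp_apply (h U' hU),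
        (hh U' hU).1, RingHom.comp_apply, RingHom.comp_apply, hres], h2⟩
    exact RingHom.congr_fun h1 b

end Groth.Agent.DefSm85
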