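import Groth.Agent.DefSm85.CDiff
import Groth.Agent.CechComp71.Scheme
import Groth.Agent.Univ70.Main
import Groth.Agent.AbSch7.OmegaInv
import Groth.Agent.RB70.ExtZQCoh
import Groth.Agent.QC70.HomLocFree
import Groth.Agent.CD47.Resolution

/-!
Čech cochains of the tangent sheaf on the cover by all affine opens.
-/

set_option autoImplicit false
set_option linter.style.haveILetI false
set_option linter.unusedSectionVars false
set_option backward.isDefEq.respectTransparency false
universe u

open CategoryTheory CategoryTheory.Limits AlgebraicGeometry TopologicalSpace Opposite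
open ArtFun ArtFun.Art

noncomputable section

namespace Groth.Agent.DefSm85

open Groth.Agent Hilb85

variable {k : Type u} [Field k] {X : Scheme.{u}}

/-- The cover by all affine opens. -/
abbrev affCov (X : Scheme.{u}) : X.affineOpens → X.Opens := fun a => a.1

/-- The intersection of a tuple of affine opens. -/
abbrev cO {n : ℕ} (i : Fin n → X.affineOpens) : X.Opens := Coh69.cOpen (X := X.toTopCat) (affCov X) i

theorem iSup_affCov : ⨆ a, affCov X a = ⊤ := iSup_affineOpens_eq_top X

theorem cO_le {n : ℕ} (i : Fin n → X.affineOpens) (j : Fin n) : cO i ≤ (i j).1 := Coh69.cOpen_le (affCov X) i j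

theorem le_cO {n : ℕ} {i : Fin n → X.affineOpens} {V : X.Opens} (h : ∀ j, V ≤ (i j).1) : V ≤ cO i :=
  Coh69.le_cOpen (affCov X) h

variable (x : X ⟶ specPt k)

theorem isAffineOpen_inf [IsSeparated x] {U V : X.Opens} (hU : IsAffineOpen U) (hV : IsAffineOpen V) :
    IsAffineOpen (U ⊓ V) := by
  haveI : X.IsSeparated := ⟨by
    rw [show terminal.from X = x ≫ terminal.from _ from terminal.hom_ext _ _]
    infer_instance⟩
  exact hU.inf hV

theorem isAffineOpen_cO [IsSeparated x] {n : ℕ} (i : Fin (n + 1) → X.affineOpens) : IsAffineOpen (cO i) :=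
  Univ70.isAffineOpen_cOpen (fun _ _ => isAffineOpen_inf x) (affCov X) (fun a => a.2) n i

theorem hasSheafHom (M : X.Modules) : DCoh.HasSheafHom M := (QC70.homModAdj M).isLeftAdjoint

variable [Smooth x] [QuasiSeparated x]

theorem isCoh_omega : Coh.IsCoh (Omega.sheaf x) :=
  CD47.isCoh_of_isFinLocFree (AbSch7.isFinLocFree_omega x)

variable [DCoh.HasSheafHom (Omega.sheaf x)]

theorem isQuasicoherent_tanSheaf : (tanSheaf x).IsQuasicoherent := by
  haveI : IsLocallyNoetherian X := LocallyOfFiniteType.isLocallyNoetherian x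
  haveI : (Coh.structureModule X).IsQuasicoherent := QC70.isCoh_unit.1
  exact QC70.isQuasicoherent_of_iso ((QC70.sheafHomIso (Omega.sheaf x)).app (Coh.structureModule X)).symm
    (RB70.isQuasicoherent_homMod (N := Coh.structureModule X) (isCoh_omega x))

theorem acyclicOn_tanSheaf [IsSeparated x] :
    CechComp71.AcyclicOn (affCov X) (Coh.toAb (tanSheaf x)) := by
  haveI := isQuasicoherent_tanSheaf x
  exact CechComp71.acyclicOn_of_isAffineOpen (affCov X) (tanSheaf x) fun n i => isAffineOpen_cO x i

/-- Cochains of the tangent sheaf. -/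
abbrev TCochain (n : ℕ) : Type u := Coh69.Cochain (affCov X) (tanSheaf x).presheaf n

/-- Cocycles of the tangent sheaf. -/
abbrev TCocycle (n : ℕ) : Type u := CechComp71.MZ (affCov X) (tanSheaf x) n

/-- The component of a cochain as a family of derivations. -/
def comp' {n : ℕ} (s : TCochain x n) (i : Fin (n + 1) → X.affineOpens) : DerFam x (cO i) := secTan x (cO i) (s i)

/-- A cochain from families of derivations. -/
def ofFam {n : ℕ} (d : ∀ i : Fin (n + 1) → X.affineOpens, DerFam x (cO i)) : TCochain x n :=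
  fun i => (secTan x (cO i)).symm (d i)

@[simp] theorem comp'_ofFam {n : ℕ} (d : ∀ i : Fin (n + 1) → X.affineOpens, DerFam x (cO i))
    (i : Fin (n + 1) → X.affineOpens) : comp' x (ofFam x d) i = d i := AddEquiv.apply_symm_apply _ _

theorem comp'_inj {n : ℕ} {s t : TCochain x n} (h : ∀ i, comp' x s i = comp' x t i) : s = t :=
  funext fun i => (secTan x (cO i)).injective (h i)

theorem DerFam.mono_add {P Q : X.Opens} (h : Q ≤ P) (D E : DerFam x P) : (D + E).mono h = D.mono h + E.mono h := rfl

theorem secTan_resP {P Q : X.Opens} (h : Q ≤ P) (s : Γ(tanSheaf x, P)) :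
    secTan x Q (Coh69.res (X := X.toTopCat) (tanSheaf x).presheaf h s) = (secTan x P s).mono h :=
  secTan_res h s

theorem comp'_cd (n : ℕ) (s : TCochain x n) (i : Fin (n + 2) → X.affineOpens) :
    comp' x (Coh69.cd (affCov X) (tanSheaf x).presheaf n s) i = ∑ j : Fin (n + 2),
      (-1 : ℤ) ^ (j : ℕ) • (comp' x s (i ∘ j.succAbove)).mono (Coh69.cOpen_comp_le (affCov X) i j.succAbove) := by
  rw [comp', Coh69.cd_apply]
  erw [map_sum]
  refine Finset.sum_congr rfl fun j _ => ?_
  erw [map_zsmul, secTan_resP]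
  rfl

theorem comp'_cd_zero (s : TCochain x 0) (i : Fin 2 → X.affineOpens) :
    comp' x (Coh69.cd (affCov X) (tanSheaf x).presheaf 0 s) i =
      (comp' x s (i ∘ (0 : Fin 2).succAbove)).mono (Coh69.cOpen_comp_le (affCov X) i _) -
      (comp' x s (i ∘ (1 : Fin 2).succAbove)).mono (Coh69.cOpen_comp_le (affCov X) i _) := by
  rw [comp'_cd, Fin.sum_univ_two]
  simp [sub_eq_add_neg]

theorem comp'_cd_one (s : TCochain x 1) (i : Fin 3 → X.affineOpens) :
    comp' x (Coh69.cd (affCov X) (tanSheaf x).presheaf 1 s) i =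
      (comp' x s (i ∘ (0 : Fin 3).succAbove)).mono (Coh69.cOpen_comp_le (affCov X) i _) -
      (comp' x s (i ∘ (1 : Fin 3).succAbove)).mono (Coh69.cOpen_comp_le (affCov X) i _) +
      (comp' x s (i ∘ (2 : Fin 3).succAbove)).mono (Coh69.cOpen_comp_le (affCov X) i _) := by
  rw [comp'_cd, Fin.sum_univ_three]
  simp [sub_eq_add_neg]

theorem comp'_cd_two (s : TCochain x 2) (i : Fin 4 → X.affineOpens) :
    comp' x (Coh69.cd (affCov X) (tanSheaf x).presheaf 2 s) i =
      (comp' x s (i ∘ (0 : Fin 4).succAbove)).mono (Coh69.cOpen_comp_le (affCov X) i _) -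
      (comp' x s (i ∘ (1 : Fin 4).succAbove)).mono (Coh69.cOpen_comp_le (affCov X) i _) +
      (comp' x s (i ∘ (2 : Fin 4).succAbove)).mono (Coh69.cOpen_comp_le (affCov X) i _) -
      (comp' x s (i ∘ (3 : Fin 4).succAbove)).mono (Coh69.cOpen_comp_le (affCov X) i _) := by
  rw [comp'_cd, Fin.sum_univ_four]
  simp [sub_eq_add_neg, pow_succ]

end Groth.Agent.DefSm85
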