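import Groth.Prelude.Def_ArtFun6
import Groth.Agent.Hilb85.Square
import Groth.Agent.VarGal.Thickening
import Groth.Agent.DefSm85.Alg
import Mathlib.AlgebraicGeometry.Morphisms.ClosedImmersion

/-!
Affine charts of a deformation, indexed by the affine opens of the closed fibre.
-/

set_option autoImplicit false
set_option linter.style.haveILetI false
set_option backward.isDefEq.respectTransparency false
universe u

open CategoryTheory CategoryTheory.Limits AlgebraicGeometry TopologicalSpace Opposite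
open ArtFun ArtFun.Art

noncomputable section

namespace Groth.Agent.DefSm85

variable {k : Type u} [Field k] {X : Scheme.{u}} {x : X ⟶ specPt k} {A : Art k k} (ξ : DefSch X x A)

theorem surjective_specRes (A : Art k k) : Surjective (specRes A) := by
  refine ⟨fun p => ⟨IsLocalRing.closedPoint k, PrimeSpectrum.ext ?_⟩⟩
  have h2 : (p : PrimeSpectrum A.carrier).asIdeal = IsLocalRing.maximalIdeal A.carrier :=
    IsLocalRing.eq_maximalIdeal (IsArtinianRing.isMaximal_of_isPrime _)
  rw [h2]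
  haveI : IsLocalHom A.res.toRingHom := IsLocalHom.of_surjective _ A.res_surjective
  exact IsLocalRing.maximalIdeal_comap A.res.toRingHom

instance isClosedImmersion_i : IsClosedImmersion ξ.i :=
  MorphismProperty.of_isPullback ξ.isPullback.flip (IsClosedImmersion.spec_of_surjective _ A.res_surjective)

instance surjective_i : Surjective ξ.i :=
  haveI := surjective_specRes A
  MorphismProperty.of_isPullback (P := @Surjective) ξ.isPullback.flip inferInstance

theorem isHomeomorph_i : IsHomeomorph ξ.i.base :=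
  isHomeomorph_iff_isEmbedding_surjective.2 ⟨ξ.i.isClosedEmbedding.isEmbedding, ξ.i.surjective⟩

/-- The open of the total space over an open of the closed fibre. -/
def up (U : X.Opens) : ξ.total.Opens :=
  ⟨ξ.i.base '' (U : Set X), (isHomeomorph_i ξ).isOpenMap _ U.isOpen⟩

theorem preimage_up (U : X.Opens) : ξ.i ⁻¹ᵁ up ξ U = U :=
  Opens.ext (Set.preimage_image_eq _ ξ.i.isClosedEmbedding.injective)

theorem up_preimage (W : ξ.total.Opens) : up ξ (ξ.i ⁻¹ᵁ W) = W :=
  Opens.ext (Set.image_preimage_eq _ ξ.i.surjective)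

theorem up_mono {U V : X.Opens} (h : U ≤ V) : up ξ U ≤ up ξ V := Set.image_mono h

theorem isAffineOpen_up {U : X.Opens} (hU : IsAffineOpen U) : IsAffineOpen (up ξ U) := by
  haveI : IsAffine (ξ.i ⁻¹ᵁ up ξ U).toScheme := by rw [preimage_up]; exact hU
  haveI : IsClosedImmersion (ξ.i ∣_ up ξ U) :=
    IsZariskiLocalAtTarget.restrict (P := @IsClosedImmersion) (inferInstanceAs (IsClosedImmersion ξ.i)) _
  haveI : Surjective (ξ.i ∣_ up ξ U) :=
    IsZariskiLocalAtTarget.restrict (P := @Surjective) (inferInstanceAs (Surjective ξ.i)) _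
  exact VarGal.isAffine_of_thickening (ξ.i ∣_ up ξ U)

/-- The affine open of the total space over an affine open of the closed fibre. -/
def upAff (U : X.affineOpens) : ξ.total.affineOpens := ⟨up ξ U.1, isAffineOpen_up ξ U.2⟩

/-- The sections over an affine chart. -/
abbrev sect (U : X.affineOpens) : Type u := Γ(ξ.total, up ξ U.1)

instance sectAlg (U : X.affineOpens) : Algebra A.carrier (sect ξ U) :=
  (Hilb85.baseMap (A' := CommRingCat.of A.carrier) ξ.f (up ξ U.1)).toAlgebra

instance flat_sect (U : X.affineOpens) : Module.Flat A.carrier (sect ξ U) :=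
  Hilb85.flat_baseMap (A' := CommRingCat.of A.carrier) ξ.f (upAff ξ U)

/-- Restriction to the closed fibre. -/
def red (U : X.affineOpens) : sect ξ U →+* Γ(X, U.1) :=
  (ξ.i.appLE (up ξ U.1) U.1 (preimage_up ξ U.1).ge).hom

theorem red_surjective (U : X.affineOpens) : Function.Surjective (red ξ U) :=
  (Hilb85.surjective_appLE_and_ker (φ := CommRingCat.ofHom A.res.toRingHom) ξ.isPullback A.res_surjective
    (upAff ξ U) U.1 (preimage_up ξ U.1).symm).1

theorem ker_red (U : X.affineOpens) :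
    RingHom.ker (red ξ U) = (IsLocalRing.maximalIdeal A.carrier).map (algebraMap A.carrier (sect ξ U)) := by
  refine (Hilb85.surjective_appLE_and_ker (φ := CommRingCat.ofHom A.res.toRingHom) ξ.isPullback A.res_surjective
    (upAff ξ U) U.1 (preimage_up ξ U.1).symm).2.trans (congrArg (Ideal.map _) ?_)
  ext a
  exact (mem_maximalIdeal_iff A a).symm

/-- The scalars on the closed fibre. -/
abbrev scal (x : X ⟶ specPt k) (U : X.Opens) : k →+* Γ(X, U) := Hilb85.baseMap (A' := CommRingCat.of k) x U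

theorem red_algebraMap (U : X.affineOpens) (a : A.carrier) :
    red ξ U (algebraMap A.carrier (sect ξ U) a) = scal x U.1 (A.res a) :=
  Hilb85.appLE_baseMap (φ := CommRingCat.ofHom A.res.toRingHom) ξ.isPullback.w _ _ _ a

/-- Restriction between charts. -/
def resC {U V : X.affineOpens} (h : V.1 ≤ U.1) : sect ξ U →+* sect ξ V :=
  (ξ.total.presheaf.map (homOfLE (up_mono ξ h)).op).hom

theorem resC_algebraMap {U V : X.affineOpens} (h : V.1 ≤ U.1) (a : A.carrier) :
    resC ξ h (algebraMap A.carrier (sect ξ U) a) = algebraMap A.carrier (sect ξ V) a := by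
  show (ξ.f.appLE ⊤ (up ξ U.1) le_top ≫ ξ.total.presheaf.map _) _ = ξ.f.appLE ⊤ (up ξ V.1) le_top _
  rw [Scheme.Hom.appLE_map]

theorem red_resC {U V : X.affineOpens} (h : V.1 ≤ U.1) (b : sect ξ U) :
    red ξ V (resC ξ h b) = X.presheaf.map (homOfLE h).op (red ξ U b) := by
  show (ξ.total.presheaf.map _ ≫ ξ.i.appLE _ _ _) b = (ξ.i.appLE _ _ _ ≫ X.presheaf.map _) b
  rw [Scheme.Hom.map_appLE, Scheme.Hom.appLE_map]

section Endo

variable (φ : ξ.total ⟶ ξ.total) (hf : φ ≫ ξ.f = ξ.f) (hi : ξ.i ≫ φ = ξ.i)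

include hi in
theorem base_endo (p : ξ.total) : φ.base p = p := by
  obtain ⟨q, rfl⟩ := ξ.i.surjective p
  exact congrArg (fun g : X ⟶ ξ.total => g.base q) hi

include hi in
theorem le_preimage_endo (W : ξ.total.Opens) : W ≤ φ ⁻¹ᵁ W := fun p hp => by
  show φ.base p ∈ W
  rwa [base_endo ξ φ hi]

include hi in
theorem preimage_endo (W : ξ.total.Opens) : φ ⁻¹ᵁ W = W :=
  le_antisymm (fun p hp => by rwa [← base_endo ξ φ hi p]) (le_preimage_endo ξ φ hi W)

/-- The action of an endomorphism on a chart. -/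
def endoC (U : X.affineOpens) : sect ξ U →+* sect ξ U :=
  (φ.appLE (up ξ U.1) (up ξ U.1) (le_preimage_endo ξ φ hi _)).hom

include hf in
theorem endoC_algebraMap (U : X.affineOpens) (a : A.carrier) :
    endoC ξ φ hi U (algebraMap A.carrier (sect ξ U) a) = algebraMap A.carrier (sect ξ U) a := by
  show (ξ.f.appLE ⊤ _ le_top ≫ φ.appLE _ _ _) _ = ξ.f.appLE ⊤ _ le_top _
  rw [Scheme.Hom.appLE_comp_appLE]
  simp only [hf]

theorem red_endoC (U : X.affineOpens) (b : sect ξ U) : red ξ U (endoC ξ φ hi U b) = red ξ U b := by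
  show (φ.appLE _ _ _ ≫ ξ.i.appLE _ _ _) b = ξ.i.appLE _ _ _ b
  rw [Scheme.Hom.appLE_comp_appLE]
  simp only [hi]

theorem endoC_sub_mem (U : X.affineOpens) (b : sect ξ U) :
    endoC ξ φ hi U b - b ∈ (IsLocalRing.maximalIdeal A.carrier).map (algebraMap A.carrier (sect ξ U)) := by
  rw [← ker_red, RingHom.mem_ker, map_sub, red_endoC, sub_self]

theorem resC_endoC {U V : X.affineOpens} (h : V.1 ≤ U.1) (b : sect ξ U) :
    resC ξ h (endoC ξ φ hi U b) = endoC ξ φ hi V (resC ξ h b) := by
  show (φ.appLE _ _ _ ≫ ξ.total.presheaf.map _) b = (ξ.total.presheaf.map _ ≫ φ.appLE _ _ _) b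
  rw [Scheme.Hom.appLE_map, Scheme.Hom.map_appLE]

theorem iSup_up : ⨆ U : X.affineOpens, up ξ U.1 = ⊤ := by
  refine top_le_iff.1 fun p _ => ?_
  obtain ⟨q, rfl⟩ := ξ.i.surjective p
  obtain ⟨_, ⟨V, hV, rfl⟩, hq, -⟩ := X.isBasis_affineOpens.exists_subset_of_mem_open (Set.mem_univ q) isOpen_univ
  exact Opens.mem_iSup.2 ⟨⟨V, hV⟩, q, hq, rfl⟩

theorem eq_id_of_endoC (h : ∀ U b, endoC ξ φ hi U b = b) : φ = 𝟙 ξ.total := by
  let 𝒰 := ξ.total.openCoverOfIsOpenCover (fun U : X.affineOpens => up ξ U.1) (.mk (iSup_up ξ))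
  refine 𝒰.hom_ext _ _ fun U => ?_
  show (up ξ U.1).ι ≫ φ = (up ξ U.1).ι ≫ 𝟙 _
  have hU := isAffineOpen_up ξ U.2
  rw [← cancel_epi hU.isoSpec.inv, ← Category.assoc, ← Category.assoc, hU.isoSpec_inv_ι,
    ← hU.SpecMap_appLE_fromSpec φ hU (le_preimage_endo ξ φ hi _), Category.comp_id]
  rw [show φ.appLE (up ξ U.1) (up ξ U.1) (le_preimage_endo ξ φ hi _) = 𝟙 _ from CommRingCat.hom_ext
    (RingHom.ext (h U)), Spec.map_id, Category.id_comp]

include hf hi in
/-- Endomorphisms of deformations are automorphisms. -/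
theorem isIso_endo : IsIso φ := by
  refine (MorphismProperty.isomorphisms.iff _).1 ?_
  refine IsZariskiLocalAtTarget.of_iSup_eq_top (P := MorphismProperty.isomorphisms Scheme.{u})
    (fun U : X.affineOpens => up ξ U.1) (iSup_up ξ) fun U => ?_
  rw [MorphismProperty.isomorphisms.iff]
  haveI : IsAffine (up ξ U.1).toScheme := isAffineOpen_up ξ U.2
  haveI : IsAffine (φ ⁻¹ᵁ up ξ U.1).toScheme := by rw [preimage_endo ξ φ hi]; exact isAffineOpen_up ξ U.2
  refine (HasAffineProperty.iff_of_isAffine (P := MorphismProperty.isomorphisms Scheme.{u})).2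
    ⟨inferInstance, ?_⟩
  have hb := bijective_of_congr (endoC ξ φ hi U) (endoC_algebraMap ξ φ hf hi U) (endoC_sub_mem ξ φ hi U)
  haveI : IsIso (φ.appLE (up ξ U.1) (up ξ U.1) (le_preimage_endo ξ φ hi _)) :=
    (ConcreteCategory.isIso_iff_bijective _).2 hb
  rw [Scheme.Hom.appTop, Scheme.Hom.app_eq_appLE, morphismRestrict_appLE]
  have key : ∀ (V W : ξ.total.Opens) (e : W ≤ φ ⁻¹ᵁ V) (_ : V = up ξ U.1) (_ : W = up ξ U.1), IsIso (φ.appLE V W e) := by
    intro V W e hV hW
    subst hV hW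
    infer_instance
  exact key _ _ _ (Scheme.Opens.ι_image_top _) ((Scheme.Opens.ι_image_top _).trans (preimage_endo ξ φ hi _))

end Endo

end Groth.Agent.DefSm85
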