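import Groth.Agent.DefSm85.CHom
import Groth.Agent.Def38.Glue
import Groth.Agent.Rib52.AffineHom

/-!
Morphisms of deformations from compatible maps of charts.
-/

set_option autoImplicit false
set_option linter.style.haveILetI false
set_option backward.isDefEq.respectTransparency false
universe u

open CategoryTheory CategoryTheory.Limits AlgebraicGeometry TopologicalSpace Opposite
open ArtFun ArtFun.Art

attribute [-instance] CategoryTheory.catToReflQuiver

noncomputable section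

namespace Groth.Agent.DefSm85

open Hilb85

/-- A surjection with extended kernel is a pushout. -/
theorem isPushout_of_surjective {A B R S : CommRingCat.{u}} (φ : A ⟶ B) (α : A ⟶ R) (f : R ⟶ S) (β : B ⟶ S)
    (w : α ≫ f = φ ≫ β) (hφ : Function.Surjective φ) (hf : Function.Surjective f)
    (hker : RingHom.ker f.hom = (RingHom.ker φ.hom).map α.hom) : IsPushout α φ f β := by
  refine ⟨⟨w⟩, ⟨PushoutCocone.IsColimit.mk _
    (fun s => CommRingCat.ofHom (RingHom.liftOfSurjective f.hom hf ⟨s.inl.hom, ?_⟩))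
    (fun s => ?_) (fun s => ?_) fun s g hg _ => ?_⟩⟩
  · rw [hker, Ideal.map_le_iff_le_comap]
    intro a ha
    show s.inl.hom (α a) = 0
    rw [show s.inl.hom (α a) = s.inr.hom (φ a) from congr($(s.condition) a), show φ a = 0 from ha, map_zero]
  · exact CommRingCat.hom_ext (RingHom.ext fun b =>
      RingHom.liftOfRightInverse_comp_apply _ _ (Function.rightInverse_surjInv hf) _ b)
  · refine CommRingCat.hom_ext (RingHom.ext fun c => ?_)
    obtain ⟨a, rfl⟩ := hφ c
    show RingHom.liftOfSurjective f.hom hf _ (β (φ a)) = s.inr.hom (φ a)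
    rw [show β (φ a) = f (α a) from (congr($w a)).symm]
    exact (RingHom.liftOfRightInverse_comp_apply _ _ (Function.rightInverse_surjInv hf) _ _).trans
      congr($(s.condition) a)
  · refine CommRingCat.hom_ext (RingHom.ext fun b => ?_)
    obtain ⟨b, rfl⟩ := hf b
    refine Eq.trans ?_ (RingHom.liftOfRightInverse_comp_apply _ _ (Function.rightInverse_surjInv hf) _ b).symm
    exact congr($hg b)

theorem id_appLE {Y : Scheme.{u}} (U : Y.Opens) (e : U ≤ (𝟙 Y : Y ⟶ Y) ⁻¹ᵁ U) :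
    (𝟙 Y : Y ⟶ Y).appLE U U e = 𝟙 _ := by
  rw [Scheme.Hom.appLE, Scheme.Hom.id_app]
  exact (Category.id_comp _).trans (Y.presheaf.map_id _)

variable {k : Type u} [Field k] {X : Scheme.{u}} {x : X ⟶ specPt k}

/-- The affine open of the closed fibre under an affine open of the total space. -/
def downAff {A : Art k k} (ξ : DefSch X x A) (W : ξ.total.affineOpens) : X.affineOpens :=
  ⟨ξ.i ⁻¹ᵁ W.1, W.2.preimage ξ.i⟩

theorem baseMap_specMap {A B : Art k k} (g : A ⟶ B) {Y : Scheme.{u}} (q : Y ⟶ spec B) (U : Y.Opens) (a : A.carrier) :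
    Hilb85.baseMap (A' := CommRingCat.of A.carrier) (q ≫ specMap g) U a =
      Hilb85.baseMap (A' := CommRingCat.of B.carrier) q U (g a) := by
  have h := appLE_baseMap (φ := CommRingCat.ofHom g.toAlgHom.toRingHom) (h := 𝟙 Y) (p := q ≫ specMap g) (q := q)
    (Category.id_comp _) U U le_rfl a
  rw [id_appLE] at h
  exact h

variable {A B : Art k k} {g : A ⟶ B} {ξ : DefSch X x A} {η : DefSch X x B}

theorem preimage_defHom (h : η.total ⟶ ξ.total) (hi : η.i ≫ h = ξ.i) (V : X.Opens) :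
    h ⁻¹ᵁ up ξ V = up η V := by
  rw [← up_preimage η (h ⁻¹ᵁ up ξ V), ← Scheme.Hom.comp_preimage, hi, preimage_up]

/-- Morphisms compatible with the closed fibre are determined on charts. -/
theorem defHom_ext {h h' : η.total ⟶ ξ.total} (hi : η.i ≫ h = ξ.i) (hi' : η.i ≫ h' = ξ.i)
    (H : ∀ V : X.affineOpens, h.appLE (up ξ V.1) (up η V.1) (preimage_defHom h hi V.1).ge =
      h'.appLE (up ξ V.1) (up η V.1) (preimage_defHom h' hi' V.1).ge) : h = h' := by
  refine Rib52.hom_ext_of_appLE (fun W => upAff ξ (downAff η W)) fun W => ?_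
  refine ⟨(up_preimage η W.1).ge.trans (preimage_defHom h hi _).ge,
    (up_preimage η W.1).ge.trans (preimage_defHom h' hi' _).ge, ?_⟩
  have h1 := congrArg (fun s => s ≫ η.total.presheaf.map (homOfLE (up_preimage η W.1).ge).op) (H (downAff η W))
  simp only [Scheme.Hom.appLE_map] at h1
  exact h1

variable (g) in
theorem exists_defHom (γ : ∀ V : X.affineOpens, sect ξ V →+* sect η V)
    (hγa : ∀ V a, γ V (algebraMap A.carrier (sect ξ V) a) = algebraMap B.carrier (sect η V) (g a))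
    (hγr : ∀ V b, red η V (γ V b) = red ξ V b)
    (hγres : ∀ {U V : X.affineOpens} (h : V.1 ≤ U.1) b, resC η h (γ U b) = γ V (resC ξ h b)) :
    ∃ h : η.total ⟶ ξ.total, ∃ hi : η.i ≫ h = ξ.i, h ≫ ξ.f = η.f ≫ specMap g ∧
      ∀ V : X.affineOpens, h.appLE (up ξ V.1) (up η V.1) (preimage_defHom h hi V.1).ge = CommRingCat.ofHom (γ V) := by
  let F : η.total.affineOpens → ξ.total.affineOpens := fun W => upAff ξ (downAff η W)
  obtain ⟨h, hh⟩ := Rib52.exists_hom_of_affine F
    (fun {V W} hVW => up_mono ξ (η.i.preimage_mono hVW))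
    (fun W => CommRingCat.ofHom (γ (downAff η W)) ≫ η.total.presheaf.map (homOfLE (up_preimage η W.1).ge).op)
    (fun {V W} hVW => by
      refine CommRingCat.hom_ext (RingHom.ext fun b => ?_)
      show η.total.presheaf.map (homOfLE (up_preimage η V.1).ge).op
          (γ (downAff η V) (resC ξ (η.i.preimage_mono hVW) b)) =
        η.total.presheaf.map (homOfLE hVW).op
          (η.total.presheaf.map (homOfLE (up_preimage η W.1).ge).op (γ (downAff η W) b))
      rw [← hγres]
      exact (res_struct (up_mono η (η.i.preimage_mono hVW)) (up_preimage η V.1).ge _).trans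
        (res_struct (up_preimage η W.1).ge hVW _).symm)
  have key : ∀ V : X.affineOpens, ∃ e : up η V.1 ≤ h ⁻¹ᵁ up ξ V.1,
      h.appLE (up ξ V.1) (up η V.1) e = CommRingCat.ofHom (γ V) := by
    intro V
    obtain ⟨e, he⟩ := hh (upAff η V)
    have aux : ∀ (V' : X.affineOpens) (_ : V' = V) (e : up η V.1 ≤ h ⁻¹ᵁ up ξ V'.1) (e' : up η V.1 ≤ up η V'.1),
        h.appLE (up ξ V'.1) (up η V.1) e = CommRingCat.ofHom (γ V') ≫ η.total.presheaf.map (homOfLE e').op →
          ∃ e, h.appLE (up ξ V.1) (up η V.1) e = CommRingCat.ofHom (γ V) := by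
      rintro _ rfl e e' he
      refine ⟨e, he.trans ?_⟩
      exact (congrArg (CommRingCat.ofHom (γ _) ≫ ·) (η.total.presheaf.map_id _)).trans (Category.comp_id _)
    exact aux _ (Subtype.ext (preimage_up η V.1)) e _ he
  choose ek hk using key
  have hi : η.i ≫ h = ξ.i := by
    refine Rib52.hom_ext_of_appLE (fun V => upAff ξ V) fun V => ?_
    refine ⟨(preimage_up η V.1).ge.trans (η.i.preimage_mono (ek V)), (preimage_up ξ V.1).ge, ?_⟩
    show (η.i ≫ h).appLE (up ξ V.1) V.1 _ = ξ.i.appLE (up ξ V.1) V.1 _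
    rw [← Scheme.Hom.appLE_comp_appLE η.i h _ _ _ (ek V) (preimage_up η V.1).ge, hk]
    exact CommRingCat.hom_ext (RingHom.ext (hγr V))
  refine ⟨h, hi, ?_, fun V => hk V⟩
  let 𝒰 := η.total.openCoverOfIsOpenCover (fun U : X.affineOpens => up η U.1) (.mk (iSup_up η))
  refine 𝒰.hom_ext _ _ fun (V : X.affineOpens) => ?_
  show (up η V.1).ι ≫ _ = (up η V.1).ι ≫ _
  have hV := isAffineOpen_up η V.2
  rw [← cancel_epi hV.isoSpec.inv]
  refine (Category.assoc _ _ _).symm.trans (Eq.trans ?_ (Category.assoc _ _ _))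
  rw [hV.isoSpec_inv_ι,
    ← (isAffineOpen_top (spec A)).SpecMap_appLE_fromSpec (h ≫ ξ.f) hV le_top,
    ← (isAffineOpen_top (spec A)).SpecMap_appLE_fromSpec (η.f ≫ specMap g) hV le_top]
  refine congrArg (Spec.map · ≫ _) (CommRingCat.hom_ext (RingHom.ext fun s => ?_))
  obtain ⟨a, rfl⟩ : ∃ a, (Scheme.ΓSpecIso (CommRingCat.of A.carrier)).inv a = s :=
    ⟨(Scheme.ΓSpecIso _).hom s, by rw [← ConcreteCategory.comp_apply, Iso.hom_inv_id]; rfl⟩
  show Hilb85.baseMap (A' := CommRingCat.of A.carrier) (h ≫ ξ.f) (up η V.1) a =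
    Hilb85.baseMap (A' := CommRingCat.of A.carrier) (η.f ≫ specMap g) (up η V.1) a
  rw [baseMap_specMap]
  refine Eq.trans ?_ (hγa V a)
  show _ = γ V (Hilb85.baseMap (A' := CommRingCat.of A.carrier) ξ.f (up ξ V.1) a)
  rw [show γ V (Hilb85.baseMap (A' := CommRingCat.of A.carrier) ξ.f (up ξ V.1) a) =
    (CommRingCat.ofHom (γ V)) (Hilb85.baseMap (A' := CommRingCat.of A.carrier) ξ.f (up ξ V.1) a) from rfl, ← hk V]
  show _ = (ξ.f.appLE ⊤ (up ξ V.1) le_top ≫ h.appLE _ _ _) _
  rw [Scheme.Hom.appLE_comp_appLE]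
  rfl

variable {C' C : Art k k} {p : C' ⟶ C} {𝒳 : DefSch X x C}

/-- An extension everywhere is an extension. -/
theorem exists_arrow (hp : IsSemismallExt p) (L : Loc p 𝒳 ⊤) :
    ∃ arr : Def38.Arrow p L.tot 𝒳, ∀ V, (⟨L.tot, arr⟩ : Ext p 𝒳).γ V = L.γ V le_top := by
  obtain ⟨h, hi, hw, hk⟩ := exists_defHom (ξ := L.tot) (η := 𝒳) p (fun V => L.γ V le_top)
    (fun V => L.γ_algebraMap V le_top) (fun V => L.red_γ V le_top) fun hVU => L.resC_γ le_top hVU
  refine ⟨⟨h, ?_, hi⟩, fun V => RingHom.ext fun b => congr($(hk V) b)⟩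
  refine Def38.isPullback_of_forall_chart hw fun q => ?_
  obtain ⟨V, hq⟩ := Opens.mem_iSup.1 ((iSup_up L.tot).ge (Set.mem_univ q))
  have hV := isAffineOpen_up L.tot V.2
  have hV' := isAffineOpen_up 𝒳 V.2
  refine ⟨_, _, hV.fromSpec, hV'.fromSpec, Spec.map (CommRingCat.ofHom (L.γ V le_top)), inferInstance,
    hV.range_fromSpec.ge hq, ?_, ?_⟩
  · refine IsOpenImmersion.isPullback _ _ _ _ ?_ ?_
    · rw [← hk V]
      exact (hV.SpecMap_appLE_fromSpec h hV' (preimage_defHom h hi V.1).ge).symm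
    · rw [hV.opensRange_fromSpec, hV'.opensRange_fromSpec, preimage_defHom h hi]
  · rw [show hV'.fromSpec ≫ 𝒳.f = Spec.map (CommRingCat.ofHom
        (Hilb85.baseMap (A' := CommRingCat.of C.carrier) 𝒳.f (up 𝒳 V.1))) by
        rw [← (isAffineOpen_top (spec C)).SpecMap_appLE_fromSpec 𝒳.f hV' le_top, IsAffineOpen.fromSpec_top,
          Scheme.isoSpec_Spec_inv, ← Spec.map_comp]
        rfl,
      show hV.fromSpec ≫ L.tot.f = Spec.map (CommRingCat.ofHom
        (Hilb85.baseMap (A' := CommRingCat.of C'.carrier) L.tot.f (up L.tot V.1))) by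
        rw [← (isAffineOpen_top (spec C')).SpecMap_appLE_fromSpec L.tot.f hV le_top, IsAffineOpen.fromSpec_top,
          Scheme.isoSpec_Spec_inv, ← Spec.map_comp]
        rfl]
    exact isPullback_SpecMap_of_isPushout _ _ _ _ (isPushout_of_surjective (CommRingCat.ofHom p.toAlgHom.toRingHom) _ _ _
      (CommRingCat.hom_ext (RingHom.ext fun a => L.γ_algebraMap V le_top a)) hp.1 (L.γ_surjective hp V le_top)
      (L.ker_γ hp V le_top))

/-- A map of extensions everywhere gives an isomorphism of extensions. -/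
theorem CHom.exists_iso (hp : IsSemismallExt p) {E₁ E₂ : Ext p 𝒳} (f : CHom E₁.toLoc E₂.toLoc) :
    ∃ ψ : E₁.tot.Iso E₂.tot, E₁.arr.hom ≫ ψ.iso.hom = E₂.arr.hom := by
  obtain ⟨f', hf1, hf2⟩ := f.exists_inverse hp
  obtain ⟨h, hi, hw, hk⟩ := exists_defHom (ξ := E₂.tot) (η := E₁.tot) (𝟙 C') (fun V => f.app V le_top)
    (fun V a => f.app_algebraMap V le_top a) (fun V b => RingHom.congr_fun (f.red_app V le_top) b)
    fun hVU b => (f.res_app le_top hVU b).symm
  obtain ⟨h', hi', hw', hk'⟩ := exists_defHom (ξ := E₁.tot) (η := E₂.tot) (𝟙 C') (fun V => f'.app V le_top)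
    (fun V a => f'.app_algebraMap V le_top a) (fun V b => RingHom.congr_fun (f'.red_app V le_top) b)
    fun hVU b => (f'.res_app le_top hVU b).symm
  rw [specMap_id, Category.comp_id] at hw hw'
  have h1 : h ≫ h' = 𝟙 _ := by
    refine defHom_ext (by rw [← Category.assoc, hi, hi']) (Category.comp_id _) fun V => ?_
    rw [← Scheme.Hom.appLE_comp_appLE h h' _ _ _ (preimage_defHom h' hi' V.1).ge (preimage_defHom h hi V.1).ge, hk, hk']
    refine CommRingCat.hom_ext (RingHom.ext fun b => ?_)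
    refine (RingHom.congr_fun (congrFun (congrFun (congrArg CHom.app hf1) V) le_top) b).trans ?_
    exact congr($(id_appLE (up E₁.tot V.1) le_rfl) b).symm
  have h2 : h' ≫ h = 𝟙 _ := by
    refine defHom_ext (by rw [← Category.assoc, hi', hi]) (Category.comp_id _) fun V => ?_
    rw [← Scheme.Hom.appLE_comp_appLE h' h _ _ _ (preimage_defHom h hi V.1).ge (preimage_defHom h' hi' V.1).ge, hk, hk']
    refine CommRingCat.hom_ext (RingHom.ext fun b => ?_)
    refine (RingHom.congr_fun (congrFun (congrFun (congrArg CHom.app hf2) V) le_top) b).trans ?_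
    exact congr($(id_appLE (up E₂.tot V.1) le_rfl) b).symm
  refine ⟨⟨⟨h, h', h1, h2⟩, hw, hi⟩, ?_⟩
  refine defHom_ext (by rw [← Category.assoc, E₁.arr.i_hom, hi]) E₂.arr.i_hom fun V => ?_
  rw [← Scheme.Hom.appLE_comp_appLE E₁.arr.hom h _ _ _ (preimage_defHom h hi V.1).ge (E₁.le_preimage V.1), hk]
  exact CommRingCat.hom_ext (RingHom.ext (f.γ_app V le_top))

/-- An isomorphism of extensions gives a map. -/
theorem exists_cHom_of_iso {E₁ E₂ : Ext p 𝒳} (ψ : E₁.tot.Iso E₂.tot) (hψ : E₁.arr.hom ≫ ψ.iso.hom = E₂.arr.hom) :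
    Nonempty (CHom E₁.toLoc E₂.toLoc) := by
  refine ⟨⟨fun V _ => (ψ.iso.hom.appLE (up E₂.tot V.1) (up E₁.tot V.1) (preimage_defHom _ ψ.i_hom V.1).ge).hom,
    fun V _ a => ?_, fun V _ b => ?_, fun {U V} _ h b => ?_⟩⟩
  · show (E₂.tot.f.appLE ⊤ _ le_top ≫ ψ.iso.hom.appLE _ _ _) _ = E₁.tot.f.appLE ⊤ _ le_top _
    rw [Scheme.Hom.appLE_comp_appLE]
    simp only [ψ.hom_f]
  · show (ψ.iso.hom.appLE _ _ _ ≫ E₁.arr.hom.appLE _ _ _) b = E₂.arr.hom.appLE _ _ _ b
    rw [Scheme.Hom.appLE_comp_appLE]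
    simp only [hψ]
  · show (E₂.tot.total.presheaf.map _ ≫ ψ.iso.hom.appLE _ _ _) b =
      (ψ.iso.hom.appLE _ _ _ ≫ E₁.tot.total.presheaf.map _) b
    erw [Scheme.Hom.map_appLE, Scheme.Hom.appLE_map]
    rfl

end Groth.Agent.DefSm85
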