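import Groth.Agent.DefSm85.Glue
import Groth.Agent.DefSm85.CHom
import Groth.Agent.DefSm85.Morph

/-!
Gluing local extensions along a strict cocycle of chartwise maps.
-/

set_option autoImplicit false
set_option linter.style.haveILetI false
set_option backward.isDefEq.respectTransparency false
universe u

open CategoryTheory CategoryTheory.Limits AlgebraicGeometry TopologicalSpace Opposite
open ArtFun ArtFun.Art

attribute [-instance] CategoryTheory.catToReflQuiver

noncomputable section

namespace Groth.Agent.DefSm85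

open Hilb85

variable {k : Type u} [Field k] {X : Scheme.{u}} {x : X ⟶ specPt k} {C' C : Art k k} {p : C' ⟶ C}
  {𝒳 : DefSch X x C}

theorem isOpenImmersion_specMap_resC {A : Art k k} (ξ : DefSch X x A) {U V : X.affineOpens} (h : V.1 ≤ U.1) :
    IsOpenImmersion (Spec.map (CommRingCat.ofHom (resC ξ h))) := by
  haveI : IsOpenImmersion (Spec.map (CommRingCat.ofHom (resC ξ h)) ≫ (upAff ξ U).2.fromSpec) := by
    rw [show Spec.map (CommRingCat.ofHom (resC ξ h)) ≫ (upAff ξ U).2.fromSpec = (upAff ξ V).2.fromSpec from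
      (upAff ξ U).2.map_fromSpec (upAff ξ V).2 (homOfLE (up_mono ξ h)).op]
    infer_instance
  exact IsOpenImmersion.of_comp _ (upAff ξ U).2.fromSpec

/-- Gluing data for local extensions. -/
structure GlueData (p : C' ⟶ C) (𝒳 : DefSch X x C) : Type (u + 1) where
  L : ∀ a : X.affineOpens, Loc p 𝒳 a.1
  φ : ∀ a b : X.affineOpens, CHom ((L a).mono (inf_le_left : a.1 ⊓ b.1 ≤ a.1)) ((L b).mono (inf_le_right : a.1 ⊓ b.1 ≤ b.1))
  cocycle : ∀ (a b c V : X.affineOpens) (hab : V.1 ≤ a.1 ⊓ b.1) (hbc : V.1 ≤ b.1 ⊓ c.1) (hac : V.1 ≤ a.1 ⊓ c.1)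
    (s : sect (L c).tot V), (φ a b).app V hab ((φ b c).app V hbc s) = (φ a c).app V hac s

namespace GlueData

variable (G : GlueData p 𝒳) (hp : IsSemismallExt p)

include hp in
theorem φ_self (a V : X.affineOpens) (h : V.1 ≤ a.1 ⊓ a.1) (s : sect (G.L a).tot V) : (G.φ a a).app V h s = s :=
  ((G.φ a a).bijective hp V h).1 (G.cocycle a a a V h h h s)

/-- The twisted system of rings. -/
def ringSys : RingSys x C' fun _ : X.affineOpens => True where
  down _ _ := trivial
  cover z := by
    obtain ⟨_, ⟨V, hV, rfl⟩, hz, -⟩ := X.isBasis_affineOpens.exists_subset_of_mem_open (Set.mem_univ z) isOpen_univ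
    exact ⟨⟨V, hV⟩, trivial, hz⟩
  R V := CommRingCat.of (sect (G.L V.1).tot V.1)
  alg V := algebraMap C'.carrier (sect (G.L V.1).tot V.1)
  flat V := flat_sect (G.L V.1).tot V.1
  red V := red (G.L V.1).tot V.1
  red_surjective V := red_surjective _ _
  ker_red V := ker_red _ _
  red_alg V := red_algebraMap _ _
  res {U V} h := ((G.φ V.1 U.1).app V.1 (le_inf le_rfl h)).comp (resC (G.L U.1).tot h)
  res_self {U} h := RingHom.ext fun s => by
    show (G.φ U.1 U.1).app U.1 _ (resC _ h s) = s
    refine (G.φ_self hp U.1 U.1 (le_inf le_rfl h) _).trans ?_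
    exact congr($((G.L U.1).tot.total.presheaf.map_id (op (up (G.L U.1).tot U.1.1))) s)
  res_comp {U V W} h h' := RingHom.ext fun s => by
    show (G.φ W.1 V.1).app W.1 _ (resC (G.L V.1).tot h' ((G.φ V.1 U.1).app V.1 _ (resC (G.L U.1).tot h s))) =
      (G.φ W.1 U.1).app W.1 _ (resC (G.L U.1).tot (h'.trans h) s)
    have e : (G.φ V.1 U.1).app W.1 (h'.trans (le_inf le_rfl h)) (resC (G.L U.1).tot h' (resC (G.L U.1).tot h s)) =
        resC (G.L V.1).tot h' ((G.φ V.1 U.1).app V.1 (le_inf le_rfl h) (resC (G.L U.1).tot h s)) :=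
      (G.φ V.1 U.1).res_app (le_inf le_rfl h) h' _
    rw [← e, G.cocycle W.1 V.1 U.1 W.1 _ _ (le_inf le_rfl (h'.trans h))]
    exact congrArg _ (res_struct (up_mono _ h) (up_mono _ h') s)
  res_alg {U V} h a := by
    show (G.φ V.1 U.1).app V.1 _ (resC _ h (algebraMap C'.carrier (sect (G.L U.1).tot U.1) a)) = _
    exact (congrArg ((G.φ V.1 U.1).app V.1 (le_inf le_rfl h)) (resC_algebraMap (G.L U.1).tot h a)).trans
      ((G.φ V.1 U.1).app_algebraMap V.1 (le_inf le_rfl h) a)
  red_res {U V} h b := by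
    refine (RingHom.congr_fun ((G.φ V.1 U.1).red_app V.1 (le_inf le_rfl h)) _).trans ?_
    exact red_resC (G.L U.1).tot h b
  isOpenImmersion {U V} h := by
    rw [CommRingCat.ofHom_comp, Spec.map_comp]
    haveI := isOpenImmersion_specMap_resC (G.L U.1).tot h
    haveI : IsIso (CommRingCat.ofHom ((G.φ V.1 U.1).app V.1 (le_inf le_rfl h))) :=
      (ConcreteCategory.isIso_iff_bijective _).2 ((G.φ V.1 U.1).bijective hp V.1 (le_inf le_rfl h))
    exact IsOpenImmersion.comp _ _

include hp in
/-- The glued extension with its identifications on the charts. -/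
theorem exists_ext :
    ∃ (E : Ext p 𝒳) (g : ∀ a : X.affineOpens, CHom (G.L a) (E.toLoc.mono (le_top : a.1 ≤ ⊤))),
      ∀ a b, (g a).mono inf_le_left = (G.φ a b).comp ((g b).mono inf_le_right) := by
  let D := G.ringSys hp
  let s : ∀ V : X.affineOpens, sect D.toDef V →+* sect (G.L V).tot V := fun V => D.secMap ⟨V, trivial⟩
  have hsa : ∀ V a, s V (algebraMap C'.carrier (sect D.toDef V) a) = algebraMap C'.carrier (sect (G.L V).tot V) a :=
    fun V a => D.secMap_algebraMap ⟨V, trivial⟩ a
  have hsr : ∀ V b, red (G.L V).tot V (s V b) = red D.toDef V b := fun V b => D.red_secMap ⟨V, trivial⟩ b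
  have hsres : ∀ {U V : X.affineOpens} (h : V.1 ≤ U.1) b,
      (G.φ V U).app V (le_inf le_rfl h) (resC (G.L U).tot h (s U b)) = s V (resC D.toDef h b) :=
    fun {U V} h b => D.res_secMap (U := ⟨U, trivial⟩) (V := ⟨V, trivial⟩) h b
  let L : Loc p 𝒳 ⊤ :=
    { tot := D.toDef
      γ := fun V _ => ((G.L V).γ V le_rfl).comp (s V)
      γ_algebraMap := fun V _ a => by rw [RingHom.comp_apply, hsa, (G.L V).γ_algebraMap]
      red_γ := fun V _ b => by rw [RingHom.comp_apply, (G.L V).red_γ, hsr]
      resC_γ := fun {U V} _ h b => by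
        rw [RingHom.comp_apply, (G.L U).resC_γ le_rfl h, RingHom.comp_apply, ← hsres h]
        exact ((G.φ V U).γ_app V (le_inf le_rfl h) _).symm }
  obtain ⟨arr, harr⟩ := exists_arrow hp L
  let g : ∀ a : X.affineOpens, CHom (G.L a) ((⟨D.toDef, arr⟩ : Ext p 𝒳).toLoc.mono (le_top : a.1 ≤ ⊤)) := fun a =>
    { app := fun V hV => ((G.φ a V).app V (le_inf hV le_rfl)).comp (s V)
      app_algebraMap := fun V hV c => by
        show (G.φ a V).app V _ (s V (algebraMap C'.carrier (sect D.toDef V) c)) = _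
        rw [hsa]
        exact (G.φ a V).app_algebraMap V _ c
      γ_app := fun V hV b => by
        refine ((G.φ a V).γ_app V (le_inf hV le_rfl) (s V b)).trans ?_
        exact (RingHom.congr_fun (harr V) b).symm
      res_app := fun {U V} hU h b => by
        show (G.φ a V).app V _ (s V (resC D.toDef h b)) = resC (G.L a).tot h ((G.φ a U).app U _ (s U b))
        rw [← hsres h, G.cocycle a V U V _ _ (le_inf (h.trans hU) h)]
        exact (G.φ a U).res_app (le_inf hU le_rfl) h _ }
  refine ⟨⟨D.toDef, arr⟩, g, fun a b => CHom.ext (funext fun V => funext fun hV => RingHom.ext fun t => ?_)⟩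
  exact (G.cocycle a b V V hV (le_inf (hV.trans inf_le_right) le_rfl) (le_inf (hV.trans inf_le_left) le_rfl) (s V t)).symm

end GlueData

end Groth.Agent.DefSm85
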