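import Groth.Agent.DefSm85.Cech
import Groth.Agent.DefSm85.GlueLoc

/-!
The class in `H¹(T)` of two extensions.
-/

set_option autoImplicit false
set_option linter.style.haveILetI false
set_option linter.unusedSectionVars false
set_option backward.isDefEq.respectTransparency false
universe u

open CategoryTheory CategoryTheory.Limits AlgebraicGeometry TopologicalSpace Opposite
open ArtFun ArtFun.Art

noncomputable section

namespace Groth.Agent.DefSm85

open Groth.Agent Hilb85

variable {k : Type u} [Field k] {X : Scheme.{u}} {x : X ⟶ specPt k} [Smooth x] [IsSeparated x]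
  [DCoh.HasSheafHom (Omega.sheaf x)] {C' C : Art k k} {p : C' ⟶ C} {𝒳 : DefSch X x C} {ι : Type u} [Fintype ι]

variable (x) in
/-- The class of a cocycle. -/
abbrev clsOf (n : ℕ) : TCocycle x n →+ Coh.HH X (tanSheaf x) n :=
  CechComp71.toHH (affCov X) iSup_affCov (tanSheaf x) n

theorem clsOf_eq_zero_iff (n : ℕ) (z : TCocycle x (n + 1)) :
    clsOf x (n + 1) z = 0 ↔ ∃ r, Coh69.cd (affCov X) (tanSheaf x).presheaf n r = z.1 :=
  CechComp71.toHH_eq_zero_iff iSup_affCov (acyclicOn_tanSheaf x) n z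

theorem clsOf_surjective (n : ℕ) : Function.Surjective (clsOf x n) :=
  CechComp71.toHH_surjective iSup_affCov (acyclicOn_tanSheaf x) n

/-- Restriction of a chartwise map to the intersection of a tuple. -/
abbrev resT {E₁ E₂ : Loc p 𝒳 ⊤}
    (φ : ∀ a : X.affineOpens, CHom (E₁.mono (le_top : a.1 ≤ ⊤)) (E₂.mono (le_top : a.1 ≤ ⊤))) {n : ℕ}
    (i : Fin n → X.affineOpens) (j : Fin n) :
    CHom (E₁.mono (le_top : cO i ≤ ⊤)) (E₂.mono (le_top : cO i ≤ ⊤)) := (φ (i j)).mono (cO_le i j)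

/-- `cl` are the classes of the differences of chartwise maps from `E₂` to `E₁`. -/
def IsCls (e : ι → C'.carrier) (E₁ E₂ : Loc p 𝒳 ⊤) (cl : ι → Coh.HH X (tanSheaf x) 1) : Prop :=
  ∃ (φ : ∀ a : X.affineOpens, CHom (E₁.mono (le_top : a.1 ≤ ⊤)) (E₂.mono (le_top : a.1 ≤ ⊤)))
    (z : ι → TCocycle x 1),
    (∀ i : Fin 2 → X.affineOpens, IsCDiff e (resT φ i 1) (resT φ i 0) fun c => comp' x (z c).1 i) ∧
      ∀ c, cl c = clsOf x 1 (z c)

variable {e : ι → C'.carrier}
  (he : LiftAlg.Small (RingHom.ker p.toAlgHom) (IsLocalRing.maximalIdeal C'.carrier) e)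
  (hp : IsSemismallExt p)

include he hp

theorem exists_isCls (E₁ E₂ : Loc p 𝒳 ⊤) : ∃ cl, IsCls e E₁ E₂ cl := by
  have hφ := fun a : X.affineOpens => exists_cHom hp a (E₁.mono (le_top : a.1 ≤ ⊤)) (E₂.mono (le_top : a.1 ≤ ⊤))
  let φ := fun a => (hφ a).some
  choose d hd using fun i : Fin 2 → X.affineOpens => exists_isCDiff he hp (resT φ i 1) (resT φ i 0)
  have hz : ∀ c, ofFam x (fun i => d i c) ∈ (Coh69.cd (affCov X) (tanSheaf x).presheaf 1).ker := fun c => by
    rw [AddMonoidHom.mem_ker]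
    refine comp'_inj x fun i => ?_
    rw [comp'_cd_one, comp'_ofFam, comp'_ofFam, comp'_ofFam]
    refine Eq.trans ?_ (map_zero (secTan x (cO i))).symm
    have h01 : IsCDiff e (resT φ i 1) (resT φ i 0) _ :=
      (hd (i ∘ (2 : Fin 3).succAbove)).mono (Coh69.cOpen_comp_le (affCov X) i _)
    have h02 : IsCDiff e (resT φ i 2) (resT φ i 0) _ :=
      (hd (i ∘ (1 : Fin 3).succAbove)).mono (Coh69.cOpen_comp_le (affCov X) i _)
    have h12 : IsCDiff e (resT φ i 2) (resT φ i 1) _ :=
      (hd (i ∘ (0 : Fin 3).succAbove)).mono (Coh69.cOpen_comp_le (affCov X) i _)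
    have h := congrFun ((h12.trans he h01).unique he h02) c
    simp only [Pi.add_apply] at h
    rw [← h]
    abel
  refine ⟨fun c => clsOf x 1 ⟨_, hz c⟩, φ, fun c => ⟨_, hz c⟩, fun i => ?_, fun c => rfl⟩
  simp only [comp'_ofFam]
  exact hd i

theorem isCls_unique {E₁ E₂ : Loc p 𝒳 ⊤} {cl cl' : ι → Coh.HH X (tanSheaf x) 1} (h : IsCls e E₁ E₂ cl)
    (h' : IsCls e E₁ E₂ cl') : cl = cl' := by
  obtain ⟨φ, z, hz, hcl⟩ := h
  obtain ⟨φ', z', hz', hcl'⟩ := h'
  choose ε hε using fun a : X.affineOpens => exists_isCDiff he hp (φ' a) (φ a)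
  funext c
  rw [hcl, hcl', eq_comm, ← sub_eq_zero, ← map_sub, clsOf_eq_zero_iff]
  refine ⟨ofFam x fun i => (ε (i 0) c).mono (cO_le i 0), comp'_inj x fun i => ?_⟩
  rw [comp'_cd_zero, comp'_ofFam, comp'_ofFam]
  refine Eq.trans ?_ (map_sub (secTan x (cO i)) _ _).symm
  have hb : IsCDiff e (resT φ' i 1) (resT φ i 1) _ := (hε (i 1)).mono (cO_le i 1)
  have ha : IsCDiff e (resT φ' i 0) (resT φ i 0) _ := (hε (i 0)).mono (cO_le i 0)
  have h1 := congrFun ((hb.trans he (hz i)).unique he ((hz' i).trans he ha)) c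
  simp only [Pi.add_apply] at h1
  exact sub_eq_sub_iff_add_eq_add.2 (h1.trans (add_comm _ _) |>.trans (add_comm _ _))

theorem isCls_trans {E₁ E₂ E₃ : Loc p 𝒳 ⊤} {cl cl' : ι → Coh.HH X (tanSheaf x) 1} (h : IsCls e E₁ E₂ cl)
    (h' : IsCls e E₂ E₃ cl') : IsCls e E₁ E₃ (cl + cl') := by
  obtain ⟨φ, z, hz, hcl⟩ := h
  obtain ⟨φ', z', hz', hcl'⟩ := h'
  refine ⟨fun a => (φ a).comp (φ' a), fun c => z c + z' c, fun i => ?_, fun c => ?_⟩
  · have h1 : IsCDiff e ((resT φ i 1).comp (resT φ' i 1)) ((resT φ i 1).comp (resT φ' i 0)) _ :=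
      (hz' i).comp_left he (resT φ i 1)
    have h2 : IsCDiff e ((resT φ i 1).comp (resT φ' i 0)) ((resT φ i 0).comp (resT φ' i 0)) _ :=
      (hz i).comp_right (resT φ' i 0)
    have h3 := h1.trans he h2
    rw [show (fun c => comp' x (z c + z' c).1 i) = (fun c => comp' x (z' c).1 i) + fun c => comp' x (z c).1 i from
      funext fun c => (map_add (secTan x (cO i)) _ _).trans (add_comm _ _)]
    exact h3
  · rw [Pi.add_apply, hcl, hcl', map_add]

omit hp in
theorem isCls_zero_of_cHom {E₁ E₂ : Loc p 𝒳 ⊤} (f : CHom E₁ E₂) :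
    IsCls e E₁ E₂ (0 : ι → Coh.HH X (tanSheaf x) 1) := by
  refine ⟨fun a => f.mono le_top, 0, fun i => ?_, fun c => (map_zero _).symm⟩
  rw [show (fun c => comp' x ((0 : ι → TCocycle x 1) c).1 i) = (0 : ι → DerFam x (cO i)) from
    funext fun c => map_zero (secTan x (cO i))]
  exact IsCDiff.self he

/-- A vanishing class gives a global map. -/
theorem nonempty_cHom {E₁ E₂ : Loc p 𝒳 ⊤} (h : IsCls e E₁ E₂ (0 : ι → Coh.HH X (tanSheaf x) 1)) :
    Nonempty (CHom E₁ E₂) := by
  obtain ⟨φ, z, hz, hcl⟩ := h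
  choose r hr using fun c => (clsOf_eq_zero_iff 0 (z c)).1 (hcl c).symm
  choose ψ hψ using fun a : X.affineOpens => exists_twistC he hp (φ a)
    fun c => - (comp' x (r c) (fun _ => a)).mono (le_cO fun _ => le_rfl)
  have hres : ∀ (i : Fin 2 → X.affineOpens), resT ψ i 1 = resT ψ i 0 := fun i => by
    have h1 : IsCDiff e (resT ψ i 1) (resT φ i 1) _ := (hψ (i 1)).mono (cO_le i 1)
    have h0 : IsCDiff e (resT ψ i 0) (resT φ i 0) _ := (hψ (i 0)).mono (cO_le i 0)
    have h2 := (h1.trans he (hz i)).sub he h0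
    refine IsCDiff.eq_of_zero (e := e) ?_
    convert h2 using 1
    funext c
    have hc : comp' x (Coh69.cd (affCov X) (tanSheaf x).presheaf 0 (r c)) i = comp' x (z c).1 i := by rw [hr]
    rw [comp'_cd_zero] at hc
    simp only [Pi.zero_apply, Pi.sub_apply, Pi.add_apply]
    rw [← hc]
    have e0 : ∀ (t : Fin 1 → X.affineOpens) (a : X.affineOpens) (_ : t = fun _ => a) (hle : cO i ≤ cO t)
        (hle' : cO i ≤ cO fun _ : Fin 1 => a),
        (comp' x (r c) t).mono hle = (comp' x (r c) fun _ => a).mono hle' := by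
      rintro _ a rfl _ _
      rfl
    rw [e0 (i ∘ (0 : Fin 2).succAbove) (i 1) (funext fun j => congrArg i (by rw [Subsingleton.elim (α := Fin 1) j 0]; rfl)) _
        (le_cO fun _ => cO_le i 1),
      e0 (i ∘ (1 : Fin 2).succAbove) (i 0) (funext fun j => congrArg i (by rw [Subsingleton.elim (α := Fin 1) j 0]; rfl)) _
        (le_cO fun _ => cO_le i 0)]
    ext V hV s
    simp only [DerFam.zero_app, DerFam.sub_app, DerFam.add_app, DerFam.mono_app, DerFam.neg_app]
    abel
  refine ⟨⟨fun V _ => (ψ V).app V le_rfl, fun V _ a => (ψ V).app_algebraMap V le_rfl a,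
    fun V _ b => (ψ V).γ_app V le_rfl b, fun {U V} _ hVU b => ?_⟩⟩
  have hVc : V.1 ≤ cO ![U, V] := le_cO fun j => by fin_cases j <;> [exact hVU; exact le_rfl]
  have h2 := RingHom.congr_fun (congrFun (congrFun (congrArg CHom.app (hres ![U, V])) V) hVc) (resC E₂.tot hVU b)
  exact h2.trans ((ψ U).res_app le_rfl hVU b)

/-- Every tuple of classes is the class of an extension. -/
theorem exists_ext_isCls (E : Loc p 𝒳 ⊤) (cl : ι → Coh.HH X (tanSheaf x) 1) :
    ∃ E' : Ext p 𝒳, IsCls e E E'.toLoc cl := by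
  choose z hz using fun c => clsOf_surjective (x := x) 1 (cl c)
  choose φ hφ using fun a b : X.affineOpens => exists_twistC he hp
    (CHom.id (E.mono (le_top : a.1 ⊓ b.1 ≤ ⊤))) fun c =>
      (comp' x (z c).1 ![b, a]).mono (le_cO fun j => by fin_cases j <;> [exact inf_le_right; exact inf_le_left])
  have hcoc : ∀ (a b c : X.affineOpens) (V : X.affineOpens) (hab : V.1 ≤ a.1 ⊓ b.1) (hbc : V.1 ≤ b.1 ⊓ c.1)
      (hac : V.1 ≤ a.1 ⊓ c.1) (s : sect E.tot V),
      (φ a b).app V hab ((φ b c).app V hbc s) = (φ a c).app V hac s := by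
    intro a b c V hab hbc hac s
    have h1 : IsCDiff e ((φ a b).mono hab) (CHom.id (E.mono (le_top : V.1 ≤ ⊤))) _ := (hφ a b).mono hab
    have h2 : IsCDiff e ((φ b c).mono hbc) (CHom.id (E.mono (le_top : V.1 ≤ ⊤))) _ := (hφ b c).mono hbc
    have h3 : IsCDiff e ((φ a c).mono hac) (CHom.id (E.mono (le_top : V.1 ≤ ⊤))) _ := (hφ a c).mono hac
    have h4 : IsCDiff e (((φ a b).mono hab).comp ((φ b c).mono hbc)) ((φ a b).mono hab) _ :=
      h2.comp_left he ((φ a b).mono hab)
    have key : ((φ a b).mono hab).comp ((φ b c).mono hbc) = (φ a c).mono hac := by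
      refine IsCDiff.eq_of_zero (e := e) ?_
      convert (h4.trans he h1).sub he h3 using 1
      funext d
      have hcy : comp' x (Coh69.cd (affCov X) (tanSheaf x).presheaf 1 (z d).1) ![c, b, a] = 0 := by
        rw [show Coh69.cd (affCov X) (tanSheaf x).presheaf 1 (z d).1 = 0 from AddMonoidHom.mem_ker.1 (z d).2]
        exact map_zero _
      rw [comp'_cd_one] at hcy
      have hV : V.1 ≤ cO ![c, b, a] := le_cO fun j => by
        fin_cases j <;> [exact hac.trans inf_le_right; exact hab.trans inf_le_right; exact hab.trans inf_le_left]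
      have e0 : ∀ (t t' : Fin 2 → X.affineOpens) (_ : t = t') (hle : cO ![c, b, a] ≤ cO t) (hle' : V.1 ≤ cO t'),
          (comp' x (z d).1 t').mono hle' = ((comp' x (z d).1 t).mono hle).mono hV := by
        rintro t _ rfl _ _
        rfl
      simp only [Pi.zero_apply, Pi.sub_apply, Pi.add_apply]
      have hcb : V.1 ≤ cO ![c, b] := le_cO fun j => by
        fin_cases j <;> [exact hbc.trans inf_le_right; exact hbc.trans inf_le_left]
      have hba : V.1 ≤ cO ![b, a] := le_cO fun j => by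
        fin_cases j <;> [exact hab.trans inf_le_right; exact hab.trans inf_le_left]
      have hca : V.1 ≤ cO ![c, a] := le_cO fun j => by
        fin_cases j <;> [exact hac.trans inf_le_right; exact hac.trans inf_le_left]
      show 0 = (comp' x (z d).1 ![c, b]).mono hcb + (comp' x (z d).1 ![b, a]).mono hba -
        (comp' x (z d).1 ![c, a]).mono hca
      rw [e0 (![c, b, a] ∘ (0 : Fin 3).succAbove) ![b, a] (funext fun j => by fin_cases j <;> rfl)
          (Coh69.cOpen_comp_le (affCov X) _ _),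
        e0 (![c, b, a] ∘ (1 : Fin 3).succAbove) ![c, a] (funext fun j => by fin_cases j <;> rfl)
          (Coh69.cOpen_comp_le (affCov X) _ _),
        e0 (![c, b, a] ∘ (2 : Fin 3).succAbove) ![c, b] (funext fun j => by fin_cases j <;> rfl)
          (Coh69.cOpen_comp_le (affCov X) _ _)]
      refine Eq.trans ?_ ((congrArg (DerFam.mono hV) hcy).symm.trans ?_)
      · ext W hW t
        simp
      · ext W hW t
        simp
        ring
    exact RingHom.congr_fun (congrFun (congrFun (congrArg CHom.app key) V) le_rfl) s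
  let G : GlueData p 𝒳 := ⟨fun a => E.mono le_top, φ, hcoc⟩
  obtain ⟨E', g, hg⟩ := G.exists_ext hp
  refine ⟨E', g, z, fun i => ?_, fun c => (hz c).symm⟩
  obtain ⟨a, b, rfl⟩ : ∃ a b, i = ![a, b] := ⟨i 0, i 1, funext fun j => by fin_cases j <;> rfl⟩
  have hle : cO ![a, b] ≤ b.1 ⊓ a.1 := le_inf (cO_le ![a, b] 1) (cO_le ![a, b] 0)
  have h1 : resT g ![a, b] 1 = ((φ b a).mono hle).comp (resT g ![a, b] 0) :=
    congrArg (CHom.mono hle) (hg b a)
  rw [h1]
  exact ((hφ b a).mono hle).comp_right (resT g ![a, b] 0)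

end Groth.Agent.DefSm85
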