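import Groth.Agent.DefSm85.Chart
import Groth.Agent.Def38.Glue
import Groth.Agent.Rib52.AffineHom
import Mathlib.AlgebraicGeometry.Gluing

/-!
A deformation from compatible rings over small affine opens of the closed fibre.
-/

set_option autoImplicit false
set_option linter.style.haveILetI false
set_option backward.isDefEq.respectTransparency false
universe u

open CategoryTheory CategoryTheory.Limits AlgebraicGeometry TopologicalSpace Opposite
open ArtFun ArtFun.Art

attribute [-instance] CategoryTheory.catToReflQuiver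

noncomputable section

namespace Groth.Agent.DefSm85

variable {k : Type u} [Field k] {X : Scheme.{u}} {x : X ⟶ specPt k}

/-- Compatible lifts of the rings of small affine opens. -/
structure RingSys (x : X ⟶ specPt k) (A : Art k k) (S : X.affineOpens → Prop) : Type (u + 1) where
  down : ∀ {V W : X.affineOpens}, V.1 ≤ W.1 → S W → S V
  cover : ∀ z : X, ∃ V, S V ∧ z ∈ V.1
  R : {V // S V} → CommRingCat.{u}
  alg : ∀ V, A.carrier →+* R V
  flat : ∀ V, (alg V).Flat
  red : ∀ V, R V →+* Γ(X, V.1.1)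
  red_surjective : ∀ V, Function.Surjective (red V)
  ker_red : ∀ V, RingHom.ker (red V) = (IsLocalRing.maximalIdeal A.carrier).map (alg V)
  red_alg : ∀ V a, red V (alg V a) = scal x V.1.1 (A.res a)
  res : ∀ {U V : {V // S V}}, V.1.1 ≤ U.1.1 → (R U →+* R V)
  res_self : ∀ {U : {V // S V}} (h : U.1.1 ≤ U.1.1), res h = RingHom.id (R U)
  res_comp : ∀ {U V W : {V // S V}} (h : V.1.1 ≤ U.1.1) (h' : W.1.1 ≤ V.1.1), (res h').comp (res h) = res (h'.trans h)
  res_alg : ∀ {U V : {V // S V}} (h : V.1.1 ≤ U.1.1) a, res h (alg U a) = alg V a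
  red_res : ∀ {U V : {V // S V}} (h : V.1.1 ≤ U.1.1) b, red V (res h b) = X.presheaf.map (homOfLE h).op (red U b)
  isOpenImmersion : ∀ {U V : {V // S V}} (h : V.1.1 ≤ U.1.1), IsOpenImmersion (Spec.map (CommRingCat.ofHom (res h)))

namespace RingSys

variable {A : Art k k} {S : X.affineOpens → Prop} (D : RingSys x A S)

/-- The diagram of spectra. -/
def functor : {V : X.affineOpens // S V} ⥤ Scheme.{u} where
  obj V := Spec (D.R V)
  map {V W} f := Spec.map (CommRingCat.ofHom (D.res (U := W) (V := V) (leOfHom f)))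
  map_id V := by rw [D.res_self]; exact Spec.map_id _
  map_comp {V W Z} f g := by rw [← Spec.map_comp, ← CommRingCat.ofHom_comp, D.res_comp]

instance {V W : {V : X.affineOpens // S V}} (f : V ⟶ W) : IsOpenImmersion (D.functor.map f) := D.isOpenImmersion _

/-- The closed fibre of a chart. -/
def fib (V : {V : X.affineOpens // S V}) : Spec Γ(X, V.1.1) ⟶ Spec (D.R V) := Spec.map (CommRingCat.ofHom (D.red V))

theorem fib_surjective (V : {V : X.affineOpens // S V}) : Function.Surjective (D.fib V).base := by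
  intro p
  obtain ⟨n, hn⟩ : IsNilpotent (IsLocalRing.maximalIdeal A.carrier) := by
    rw [← IsLocalRing.jacobson_eq_maximalIdeal (⊥ : Ideal A.carrier) bot_ne_top]
    exact IsArtinianRing.isNilpotent_jacobson_bot
  have : p ∈ Set.range (PrimeSpectrum.comap (D.red V)) := by
    rw [range_comap_of_surjective _ _ (D.red_surjective V)]
    intro a ha
    have h1 : a ^ n ∈ RingHom.ker (D.red V) ^ n := Ideal.pow_mem_pow ha n
    rw [D.ker_red, ← Ideal.map_pow, hn, Ideal.zero_eq_bot, Ideal.map_bot, Ideal.mem_bot] at h1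
    exact p.isPrime.mem_of_pow_mem n (h1 ▸ zero_mem _)
  exact this

theorem fib_injective (V : {V : X.affineOpens // S V}) : Function.Injective (D.fib V).base :=
  haveI : IsClosedImmersion (D.fib V) := IsClosedImmersion.spec_of_surjective _ (D.red_surjective V)
  (D.fib V).isClosedEmbedding.injective

theorem fib_map {V W : {V : X.affineOpens // S V}} (f : V ⟶ W) :
    D.fib V ≫ (D.functor.map f : Spec (D.R V) ⟶ Spec (D.R W)) =
      Spec.map (X.presheaf.map (homOfLE (leOfHom f : V.1.1 ≤ W.1.1)).op) ≫ D.fib W := by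
  show Spec.map _ ≫ Spec.map _ = Spec.map _ ≫ Spec.map _
  rw [← Spec.map_comp, ← Spec.map_comp]
  exact congrArg Spec.map (CommRingCat.hom_ext (RingHom.ext fun b => D.red_res _ b))

theorem fromSpec_eq_of_map_eq {i j l : {V : X.affineOpens // S V}} (fi : i ⟶ l) (fj : j ⟶ l)
    (a : Spec Γ(X, i.1.1)) (b : Spec Γ(X, j.1.1))
    (h : (D.functor.map fi).base ((D.fib i).base a) = (D.functor.map fj).base ((D.fib j).base b)) :
    i.1.2.fromSpec.base a = j.1.2.fromSpec.base b := by
  replace h : (D.fib i ≫ (D.functor.map fi : Spec (D.R i) ⟶ Spec (D.R l))).base a =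
      (D.fib j ≫ (D.functor.map fj : Spec (D.R j) ⟶ Spec (D.R l))).base b := h
  rw [D.fib_map, D.fib_map, Scheme.Hom.comp_apply, Scheme.Hom.comp_apply] at h
  have h2 := congrArg l.1.2.fromSpec.base (D.fib_injective l h)
  rwa [← Scheme.Hom.comp_apply, ← Scheme.Hom.comp_apply, l.1.2.map_fromSpec i.1.2, l.1.2.map_fromSpec j.1.2] at h2

theorem fromSpec_map_eq {i l : {V : X.affineOpens // S V}} (h : l.1.1 ≤ i.1.1) (c : Spec Γ(X, l.1.1))
    (a : Spec Γ(X, i.1.1)) (e : i.1.2.fromSpec.base a = l.1.2.fromSpec.base c) :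
    (D.functor.map (homOfLE (show l ≤ i from h))).base ((D.fib l).base c) = (D.fib i).base a := by
  show (D.fib l ≫ (D.functor.map (homOfLE (show l ≤ i from h)) : Spec (D.R l) ⟶ Spec (D.R i))).base c = _
  rw [D.fib_map, Scheme.Hom.comp_apply]
  refine congrArg _ (i.1.2.fromSpec.isOpenEmbedding.injective ?_)
  rw [e, ← Scheme.Hom.comp_apply, i.1.2.map_fromSpec l.1.2]

include D in
theorem exists_small {W : X.Opens} {i : {V : X.affineOpens // S V}} (hW : W ≤ i.1.1) {z : X} (hz : z ∈ W) :
    ∃ l : {V : X.affineOpens // S V}, l.1.1 ≤ W ∧ z ∈ l.1.1 := by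
  obtain ⟨_, ⟨V, hV, rfl⟩, hzV, hVW⟩ := X.isBasis_affineOpens.exists_subset_of_mem_open hz W.isOpen
  exact ⟨⟨⟨V, hV⟩, D.down (le_trans hVW hW) i.2⟩, hVW, hzV⟩

instance isLocallyDirected : (D.functor ⋙ Scheme.forget).IsLocallyDirected := by
  refine ⟨fun {i j l} fi fj xi xj e => ?_⟩
  obtain ⟨a, rfl⟩ := D.fib_surjective i xi
  obtain ⟨b, rfl⟩ := D.fib_surjective j xj
  have hab := D.fromSpec_eq_of_map_eq fi fj a b e
  have hz : i.1.2.fromSpec.base a ∈ i.1.1 ⊓ j.1.1 :=
    ⟨i.1.2.range_fromSpec.le ⟨a, rfl⟩, hab ▸ j.1.2.range_fromSpec.le ⟨b, rfl⟩⟩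
  obtain ⟨m, hm, hzm⟩ := D.exists_small (W := i.1.1 ⊓ j.1.1) (i := i) inf_le_left hz
  obtain ⟨c, hc⟩ : ∃ c, m.1.2.fromSpec.base c = i.1.2.fromSpec.base a := m.1.2.range_fromSpec.ge hzm
  exact ⟨m, homOfLE (show m ≤ i from hm.trans inf_le_left), homOfLE (show m ≤ j from hm.trans inf_le_right),
    (D.fib m).base c, D.fromSpec_map_eq (hm.trans inf_le_left) c a hc.symm,
    D.fromSpec_map_eq (hm.trans inf_le_right) c b (hab.symm.trans hc.symm)⟩

/-- The glued scheme. -/
def total : Scheme.{u} := colimit D.functor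

/-- The charts. -/
def ι (V : {V : X.affineOpens // S V}) : Spec (D.R V) ⟶ D.total := colimit.ι D.functor V

instance (V : {V : X.affineOpens // S V}) : IsOpenImmersion (D.ι V) :=
  inferInstanceAs (IsOpenImmersion (colimit.ι D.functor V))

theorem map_ι {U V : {V : X.affineOpens // S V}} (h : V.1.1 ≤ U.1.1) :
    Spec.map (CommRingCat.ofHom (D.res h)) ≫ D.ι U = D.ι V :=
  colimit.w D.functor (homOfLE (show V ≤ U from h))

theorem ι_jointly_surjective (p : D.total) : ∃ V y, (D.ι V).base y = p :=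
  Scheme.IsLocallyDirected.ι_jointly_surjective D.functor p

/-- The structure map. -/
def f : D.total ⟶ spec A :=
  colimit.desc D.functor
    { pt := spec A
      ι :=
        { app := fun V => Spec.map (CommRingCat.ofHom (D.alg V))
          naturality := fun {V W} g => by
            show Spec.map _ ≫ Spec.map _ = Spec.map _ ≫ 𝟙 _
            rw [Category.comp_id, ← Spec.map_comp]
            exact congrArg Spec.map (CommRingCat.hom_ext (RingHom.ext fun a => D.res_alg _ a)) } }

theorem ι_f (V : {V : X.affineOpens // S V}) : D.ι V ≫ D.f = Spec.map (CommRingCat.ofHom (D.alg V)) :=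
  colimit.ι_desc _ _

theorem flat_f : Flat D.f := by
  refine (IsZariskiLocalAtSource.iff_of_openCover (P := @Flat) (Scheme.IsLocallyDirected.openCover D.functor)).2
    fun V => ?_
  show Flat (D.ι V ≫ D.f)
  rw [D.ι_f]
  exact (HasRingHomProperty.Spec_iff (P := @Flat)).2 (D.flat V)

/-- The map from a small open of the closed fibre. -/
def m (V : {V : X.affineOpens // S V}) : (V.1.1 : Scheme.{u}) ⟶ D.total :=
  V.1.1.toSpecΓ ≫ D.fib V ≫ D.ι V

theorem homOfLE_m {V W : {V : X.affineOpens // S V}} (h : V.1.1 ≤ W.1.1) : X.homOfLE h ≫ D.m W = D.m V := by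
  simp only [m]
  rw [← Scheme.Opens.toSpecΓ_SpecMap_presheaf_map_assoc V.1.1 W.1.1 h]
  refine congrArg (V.1.1.toSpecΓ ≫ ·) ?_
  refine (Category.assoc _ _ _).symm.trans ?_
  refine (congrArg (· ≫ D.ι W) (D.fib_map (homOfLE (show V ≤ W from h))).symm).trans ?_
  rw [Category.assoc]
  exact congrArg (D.fib V ≫ ·) (D.map_ι h)

/-- The cover of the closed fibre by small opens. -/
def cov : X.OpenCover :=
  X.openCoverOfIsOpenCover (fun V : {V : X.affineOpens // S V} => (V.1.1 : X.Opens))
    (.mk (top_le_iff.1 fun z _ => by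
      obtain ⟨V, hV, hz⟩ := D.cover z
      exact Opens.mem_iSup.2 ⟨⟨V, hV⟩, hz⟩))

theorem m_compat (i j : {V : X.affineOpens // S V}) :
    pullback.fst i.1.1.ι j.1.1.ι ≫ D.m i = pullback.snd i.1.1.ι j.1.1.ι ≫ D.m j := by
  have hP := isPullback_opens_inf i.1.1 j.1.1
  rw [← cancel_epi hP.isoPullback.hom, hP.isoPullback_hom_fst_assoc, hP.isoPullback_hom_snd_assoc]
  refine Rib52.hom_ext_affine_le fun V hV => ?_
  rw [Scheme.homOfLE_homOfLE_assoc, Scheme.homOfLE_homOfLE_assoc,
    D.homOfLE_m (V := ⟨V, D.down (hV.trans inf_le_left) i.2⟩) (W := i) (hV.trans inf_le_left),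
    D.homOfLE_m (V := ⟨V, D.down (hV.trans inf_le_left) i.2⟩) (W := j) (hV.trans inf_le_right)]

/-- The closed fibre. -/
def i : X ⟶ D.total := D.cov.glueMorphisms D.m D.m_compat

theorem fromSpec_i (V : {V : X.affineOpens // S V}) : V.1.2.fromSpec ≫ D.i = D.fib V ≫ D.ι V := by
  have h : V.1.1.ι ≫ D.i = D.m V := D.cov.ι_glueMorphisms D.m D.m_compat V
  rw [← cancel_epi V.1.2.isoSpec.hom, IsAffineOpen.isoSpec_hom, IsAffineOpen.toSpecΓ_fromSpec_assoc, h]
  rfl

theorem fromSpec_x (V : X.affineOpens) : V.2.fromSpec ≫ x = Spec.map (CommRingCat.ofHom (scal x V.1)) := by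
  rw [← (isAffineOpen_top (specPt k)).SpecMap_appLE_fromSpec x V.2 le_top, IsAffineOpen.fromSpec_top,
    Scheme.isoSpec_Spec_inv, ← Spec.map_comp]
  rfl

theorem i_f : D.i ≫ D.f = x ≫ specRes A := by
  refine D.cov.hom_ext _ _ fun (V : {V : X.affineOpens // S V}) => ?_
  show V.1.1.ι ≫ _ = V.1.1.ι ≫ _
  have hV : IsAffineOpen V.1.1 := V.1.2
  rw [← cancel_epi hV.isoSpec.inv, ← Category.assoc, ← Category.assoc, IsAffineOpen.isoSpec_inv_ι]
  refine (Category.assoc _ _ _).symm.trans ((congrArg (· ≫ D.f) (D.fromSpec_i V)).trans ?_)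
  refine Eq.trans ?_ ((congrArg (· ≫ specRes A) (fromSpec_x (x := x) V.1).symm).trans (Category.assoc _ _ _))
  rw [Category.assoc, D.ι_f]
  show Spec.map _ ≫ Spec.map _ = Spec.map _ ≫ Spec.map _
  rw [← Spec.map_comp, ← Spec.map_comp]
  exact congrArg Spec.map (CommRingCat.hom_ext (RingHom.ext fun a => D.red_alg V a))

theorem preimage_range (V : {V : X.affineOpens // S V}) : D.i ⁻¹ᵁ (D.ι V).opensRange = V.1.1 := by
  refine le_antisymm (fun z hz => ?_) fun z hz => ?_
  · obtain ⟨W, hWS, hzW⟩ := D.cover z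
    let W' : {V : X.affineOpens // S V} := ⟨W, hWS⟩
    obtain ⟨a, rfl⟩ : ∃ a, W'.1.2.fromSpec.base a = z := W'.1.2.range_fromSpec.ge hzW
    obtain ⟨y, hy⟩ := hz
    have h1 : (D.ι W').base ((D.fib W').base a) = (D.ι V).base y := by
      rw [hy]
      exact (congrArg (fun g => g.base a) (D.fromSpec_i W')).symm
    obtain ⟨l, fi, fj, t, ht, -⟩ := (Scheme.IsLocallyDirected.ι_eq_ι_iff (F := D.functor)).1 h1
    obtain ⟨c, rfl⟩ := D.fib_surjective l t
    have h2 : W'.1.2.fromSpec.base a = l.1.2.fromSpec.base c :=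
      (D.fromSpec_eq_of_map_eq fi (𝟙 W') c a (by simpa using ht)).symm
    rw [h2]
    exact (leOfHom fj : l.1.1 ≤ V.1.1) (l.1.2.range_fromSpec.le ⟨c, rfl⟩)
  · obtain ⟨a, rfl⟩ : ∃ a, V.1.2.fromSpec.base a = z := V.1.2.range_fromSpec.ge hz
    show D.i.base (V.1.2.fromSpec.base a) ∈ (D.ι V).opensRange
    rw [← Scheme.Hom.comp_apply, D.fromSpec_i, Scheme.Hom.comp_apply]
    exact ⟨_, rfl⟩

theorem isPushout (V : {V : X.affineOpens // S V}) :
    IsPushout (CommRingCat.ofHom (D.alg V)) (CommRingCat.ofHom A.res.toRingHom) (CommRingCat.ofHom (D.red V))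
      (CommRingCat.ofHom (scal x V.1.1)) := by
  refine ⟨⟨CommRingCat.hom_ext (RingHom.ext fun a => D.red_alg V a)⟩, ⟨PushoutCocone.IsColimit.mk _
    (fun s => CommRingCat.ofHom (RingHom.liftOfSurjective (D.red V) (D.red_surjective V) ⟨s.inl.hom, ?_⟩))
    (fun s => ?_) (fun s => ?_) fun s g hg _ => ?_⟩⟩
  · rw [D.ker_red, Ideal.map_le_iff_le_comap]
    intro a ha
    have : s.inl.hom (D.alg V a) = s.inr.hom (A.res a) := congr($(s.condition) a)
    show s.inl.hom (D.alg V a) = 0
    rw [this, show A.res a = 0 from (mem_maximalIdeal_iff A a).1 ha, map_zero]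
  · exact CommRingCat.hom_ext (RingHom.ext fun b =>
      RingHom.liftOfRightInverse_comp_apply _ _ (Function.rightInverse_surjInv (D.red_surjective V)) _ b)
  · refine CommRingCat.hom_ext (RingHom.ext fun c => ?_)
    obtain ⟨a, rfl⟩ := A.res_surjective c
    show RingHom.liftOfSurjective (D.red V) _ _ (scal x V.1.1 (A.res a)) = s.inr.hom (A.res a)
    rw [← D.red_alg]
    exact (RingHom.liftOfRightInverse_comp_apply _ _ (Function.rightInverse_surjInv (D.red_surjective V)) _ _).trans
      congr($(s.condition) a)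
  · refine CommRingCat.hom_ext (RingHom.ext fun b => ?_)
    obtain ⟨b, rfl⟩ := D.red_surjective V b
    refine Eq.trans ?_ (RingHom.liftOfRightInverse_comp_apply _ _ (Function.rightInverse_surjInv (D.red_surjective V)) _ b).symm
    exact congr($hg b)

theorem isPullback : IsPullback D.i x D.f (specRes A) := by
  refine Def38.isPullback_of_forall_chart D.i_f fun p => ?_
  obtain ⟨V, y, hy⟩ := D.ι_jointly_surjective p
  refine ⟨_, _, D.ι V, V.1.2.fromSpec, D.fib V, inferInstance, ⟨y, hy⟩, ?_, ?_⟩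
  · refine IsOpenImmersion.isPullback _ _ _ _ (D.fromSpec_i V) ?_
    rw [D.preimage_range, IsAffineOpen.opensRange_fromSpec]
  · rw [fromSpec_x, D.ι_f]
    exact isPullback_SpecMap_of_isPushout _ _ _ _ (D.isPushout V)

/-- The glued deformation. -/
def toDef : DefSch X x A where
  total := D.total
  f := D.f
  flat := D.flat_f
  i := D.i
  isPullback := D.isPullback

theorem opensRange_ι (V : {V : X.affineOpens // S V}) : (D.ι V).opensRange = up D.toDef V.1.1 :=
  (up_preimage D.toDef _).symm.trans (congrArg (up D.toDef) (D.preimage_range V))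

/-- The comparison with the charts of the glued deformation. -/
def secMap (V : {V : X.affineOpens // S V}) : sect D.toDef V.1 →+* D.R V :=
  ((D.ι V).appLE (up D.toDef V.1.1) ⊤ (fun y _ => (D.opensRange_ι V).le ⟨y, rfl⟩) ≫
    (Scheme.ΓSpecIso (D.R V)).hom).hom

theorem map_secMap (V : {V : X.affineOpens // S V}) :
    Spec.map (CommRingCat.ofHom (D.secMap V)) ≫ (upAff D.toDef V.1).2.fromSpec = D.ι V := by
  rw [show CommRingCat.ofHom (D.secMap V) = (D.ι V).appLE (up D.toDef V.1.1) ⊤
      (fun y _ => (D.opensRange_ι V).le ⟨y, rfl⟩) ≫ (Scheme.ΓSpecIso (D.R V)).hom from rfl,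
    Spec.map_comp, Category.assoc]
  erw [(upAff D.toDef V.1).2.SpecMap_appLE_fromSpec (D.ι V) (isAffineOpen_top _)]
  rw [IsAffineOpen.fromSpec_top, Scheme.isoSpec_Spec_inv, ← Spec.map_comp_assoc, Iso.inv_hom_id, Spec.map_id]
  exact Category.id_comp _

theorem secMap_bijective (V : {V : X.affineOpens // S V}) : Function.Bijective (D.secMap V) := by
  have hr : Set.range (D.ι V) = Set.range (upAff D.toDef V.1).2.fromSpec := by
    rw [(upAff D.toDef V.1).2.range_fromSpec]
    exact congrArg (fun U : D.total.Opens => (U : Set D.total)) (D.opensRange_ι V)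
  let e := IsOpenImmersion.isoOfRangeEq (D.ι V) (upAff D.toDef V.1).2.fromSpec hr
  have he : Spec.map (CommRingCat.ofHom (D.secMap V)) = e.hom := by
    rw [← cancel_mono (upAff D.toDef V.1).2.fromSpec]
    exact (D.map_secMap V).trans (IsOpenImmersion.isoOfRangeEq_hom_fac _ _ hr).symm
  haveI : IsIso (Scheme.Spec.map (CommRingCat.ofHom (D.secMap V)).op) := by
    show IsIso (Spec.map (CommRingCat.ofHom (D.secMap V)))
    exact he.symm ▸ (inferInstance : IsIso e.hom)
  haveI := isIso_of_reflects_iso (CommRingCat.ofHom (D.secMap V)).op Scheme.Spec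
  haveI : IsIso (CommRingCat.ofHom (D.secMap V)) := isIso_of_op _
  exact ConcreteCategory.bijective_of_isIso (CommRingCat.ofHom (D.secMap V))

theorem secMap_algebraMap (V : {V : X.affineOpens // S V}) (a : A.carrier) :
    D.secMap V (algebraMap A.carrier (sect D.toDef V.1) a) = D.alg V a := by
  have h : Spec.map (CommRingCat.ofHom (D.secMap V)) ≫ ((upAff D.toDef V.1).2.fromSpec ≫ D.f) =
      Spec.map (CommRingCat.ofHom (D.alg V)) := by rw [← Category.assoc, D.map_secMap, D.ι_f]
  have h2 : (upAff D.toDef V.1).2.fromSpec ≫ D.f =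
      Spec.map (CommRingCat.ofHom (Hilb85.baseMap (A' := CommRingCat.of A.carrier) D.f (up D.toDef V.1.1))) := by
    rw [← (isAffineOpen_top (spec A)).SpecMap_appLE_fromSpec D.f (upAff D.toDef V.1).2 le_top,
      IsAffineOpen.fromSpec_top, Scheme.isoSpec_Spec_inv, ← Spec.map_comp]
    rfl
  rw [h2, ← Spec.map_comp] at h
  exact congr($(Spec.map_injective h) a)

theorem red_secMap (V : {V : X.affineOpens // S V}) (b : sect D.toDef V.1) :
    D.red V (D.secMap V b) = DefSm85.red D.toDef V.1 b := by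
  have h : Spec.map (CommRingCat.ofHom (D.red V)) ≫ Spec.map (CommRingCat.ofHom (D.secMap V)) =
      Spec.map (CommRingCat.ofHom (DefSm85.red D.toDef V.1)) := by
    rw [← cancel_mono (upAff D.toDef V.1).2.fromSpec, Category.assoc, D.map_secMap]
    exact (D.fromSpec_i V).symm.trans
      ((upAff D.toDef V.1).2.SpecMap_appLE_fromSpec D.i V.1.2 (preimage_up D.toDef V.1.1).ge).symm
  rw [← Spec.map_comp] at h
  exact congr($(Spec.map_injective h) b)

theorem res_secMap {U V : {V : X.affineOpens // S V}} (h : V.1.1 ≤ U.1.1) (b : sect D.toDef U.1) :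
    D.res h (D.secMap U b) = D.secMap V (resC D.toDef h b) := by
  have h1 : Spec.map (CommRingCat.ofHom (D.res h)) ≫ Spec.map (CommRingCat.ofHom (D.secMap U)) =
      Spec.map (CommRingCat.ofHom (D.secMap V)) ≫ Spec.map (CommRingCat.ofHom (resC D.toDef h)) := by
    rw [← cancel_mono (upAff D.toDef U.1).2.fromSpec, Category.assoc, D.map_secMap, D.map_ι, Category.assoc]
    exact (D.map_secMap V).symm.trans
      (congrArg (_ ≫ ·) ((upAff D.toDef U.1).2.map_fromSpec (upAff D.toDef V.1).2 (homOfLE (up_mono D.toDef h)).op).symm)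
  rw [← Spec.map_comp, ← Spec.map_comp] at h1
  exact congr($(Spec.map_injective h1) b)

end RingSys

end Groth.Agent.DefSm85
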