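import Groth.Agent.DefSm85.CHom

/-!
Compatible maps between deformations over an affine open of a smooth closed fibre.
-/

set_option autoImplicit false
set_option linter.style.haveILetI false
set_option backward.isDefEq.respectTransparency false
universe u

open CategoryTheory CategoryTheory.Limits AlgebraicGeometry TopologicalSpace Opposite TensorProduct
open ArtFun ArtFun.Art

noncomputable section

namespace Groth.Agent.DefSm85

open Hilb85

/-- A lift through a surjection with nilpotent kernel along a formally étale algebra. -/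
theorem exists_lift_etale_nil {R S T T₀ : Type u} [CommRing R] [CommRing S] [CommRing T] [CommRing T₀] (u : R →+* S)
    (hu : u.FormallyEtale) (g : R →+* T) (q : T →+* T₀) (hq : Function.Surjective q)
    (hq2 : IsNilpotent (RingHom.ker q)) (h₀ : S →+* T₀) (hc : h₀.comp u = q.comp g) :
    ∃! h : S →+* T, h.comp u = g ∧ q.comp h = h₀ := by
  letI := u.toAlgebra
  letI := g.toAlgebra
  letI : Algebra R T₀ := (q.comp g).toAlgebra
  haveI : Algebra.FormallyEtale R S := hu
  let Q : T →ₐ[R] T₀ := { q with commutes' := fun _ => rfl }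
  let H₀ : S →ₐ[R] T₀ := { h₀ with commutes' := fun r => RingHom.congr_fun hc r }
  have hQ : Function.Surjective Q := hq
  refine ⟨(Algebra.FormallySmooth.liftOfSurjective H₀ Q hQ hq2).toRingHom, ⟨?_, ?_⟩, ?_⟩
  · exact RingHom.ext fun r => (Algebra.FormallySmooth.liftOfSurjective H₀ Q hQ hq2).commutes r
  · exact congrArg AlgHom.toRingHom (Algebra.FormallySmooth.comp_liftOfSurjective H₀ Q hQ hq2)
  · rintro h ⟨h1, h2⟩
    let H : S →ₐ[R] T := { h with commutes' := fun r => RingHom.congr_fun h1 r }
    have : H = Algebra.FormallySmooth.liftOfSurjective H₀ Q hQ hq2 := by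
      refine Algebra.FormallyUnramified.lift_unique (RingHom.ker (Q : T →+* T₀)) hq2 _ _ (AlgHom.ext fun s => ?_)
      show Ideal.Quotient.mk _ (H s) = Ideal.Quotient.mk _ (Algebra.FormallySmooth.liftOfSurjective H₀ Q hQ hq2 s)
      rw [Ideal.Quotient.eq, RingHom.mem_ker, map_sub]
      show q (h s) - Q _ = 0
      rw [show q (h s) = h₀ s from RingHom.congr_fun h2 s]
      exact sub_eq_zero.2 (AlgHom.congr_fun (Algebra.FormallySmooth.comp_liftOfSurjective H₀ Q hQ hq2) s).symm
    exact congrArg AlgHom.toRingHom this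

variable {k : Type u} [Field k] {X : Scheme.{u}} {x : X ⟶ specPt k}

theorem isNilpotent_ker_red {A : Art k k} (ξ : DefSch X x A) (V : X.affineOpens) :
    IsNilpotent (RingHom.ker (red ξ V)) := by
  rw [ker_red]
  obtain ⟨n, hn⟩ : IsNilpotent (IsLocalRing.maximalIdeal A.carrier) := by
    rw [← IsLocalRing.jacobson_eq_maximalIdeal (⊥ : Ideal A.carrier) bot_ne_top]
    exact IsArtinianRing.isNilpotent_jacobson_bot
  exact ⟨n, by rw [← Ideal.map_pow, hn]; exact Ideal.map_bot⟩

variable [Smooth x] {A B : Art k k} (g : A ⟶ B) (ξ : DefSch X x A) (η : DefSch X x B)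

theorem exists_mapOn (U : X.affineOpens) :
    ∃ f : ∀ V : X.affineOpens, V.1 ≤ U.1 → (sect ξ V →+* sect η V),
      (∀ V hV a, f V hV (algebraMap A.carrier (sect ξ V) a) = algebraMap B.carrier (sect η V) (g a)) ∧
      (∀ V hV b, red η V (f V hV b) = red ξ V b) ∧
      ∀ {W V : X.affineOpens} (hW : W.1 ≤ U.1) (h : V.1 ≤ W.1) b,
        resC η h (f W hW b) = f V (h.trans hW) (resC ξ h b) := by
  let B₀ := Γ(X, U.1)
  letI : Algebra k B₀ := (scal x U.1).toAlgebra
  haveI := formallySmooth_scal (x := x) U
  letI : Algebra A.carrier (sect η U) := ((algebraMap B.carrier (sect η U)).comp g.toAlgHom.toRingHom).toAlgebra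
  letI : Algebra k (sect η U) := ((algebraMap B.carrier (sect η U)).comp (algebraMap k B.carrier)).toAlgebra
  letI : Algebra k (sect ξ U) := ((algebraMap A.carrier (sect ξ U)).comp (algebraMap k A.carrier)).toAlgebra
  haveI : IsScalarTower k A.carrier (sect ξ U) := IsScalarTower.of_algebraMap_eq fun _ => rfl
  haveI : IsScalarTower k A.carrier (sect η U) := IsScalarTower.of_algebraMap_eq fun c =>
    (congrArg (algebraMap B.carrier (sect η U)) (g.toAlgHom.commutes c)).symm
  let r : sect ξ U →ₐ[k] B₀ := { red ξ U with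
    commutes' := fun c => (red_algebraMap ξ U _).trans (congrArg (scal x U.1) (A.res.commutes c)) }
  let r' : sect η U →ₐ[k] B₀ := { red η U with
    commutes' := fun c => (red_algebraMap η U _).trans (congrArg (scal x U.1) (B.res.commutes c)) }
  have hnil : IsNilpotent (RingHom.ker (r : sect ξ U →+* B₀)) := isNilpotent_ker_red ξ U
  have hnil' : IsNilpotent (RingHom.ker (r' : sect η U →+* B₀)) := isNilpotent_ker_red η U
  let σ : B₀ →ₐ[k] sect ξ U :=
    Algebra.FormallySmooth.liftOfSurjective (AlgHom.id k B₀) r (red_surjective ξ U) hnil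
  have hσ : ∀ z, r (σ z) = z :=
    AlgHom.congr_fun (Algebra.FormallySmooth.comp_liftOfSurjective _ _ (red_surjective ξ U) hnil)
  let τ : B₀ →ₐ[k] sect η U :=
    Algebra.FormallySmooth.liftOfSurjective (AlgHom.id k B₀) r' (red_surjective η U) hnil'
  have hτ : ∀ z, r' (τ z) = z :=
    AlgHom.congr_fun (Algebra.FormallySmooth.comp_liftOfSurjective _ _ (red_surjective η U) hnil')
  let Ψ : A.carrier ⊗[k] B₀ →ₐ[A.carrier] sect ξ U :=
    Algebra.TensorProduct.lift (Algebra.ofId A.carrier _) σ fun _ _ => Commute.all _ _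
  have hΨ : Function.Bijective Ψ :=
    Deform85.bijective_lift_of_section (Deform85.exists_residue A.res) r (red_surjective ξ U) (ker_red ξ U) σ hσ
  let F : A.carrier ⊗[k] B₀ →ₐ[A.carrier] sect η U :=
    Algebra.TensorProduct.lift (Algebra.ofId A.carrier _) τ fun _ _ => Commute.all _ _
  let f₀ : sect ξ U →ₐ[A.carrier] sect η U := F.comp (AlgEquiv.ofBijective Ψ hΨ).symm.toAlgHom
  have hf₀ : ∀ b, red η U (f₀ b) = red ξ U b := fun b => by
    obtain ⟨z, rfl⟩ := hΨ.2 b
    have hfz : f₀ (Ψ z) = F z := congrArg F ((AlgEquiv.ofBijective Ψ hΨ).symm_apply_apply z)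
    rw [hfz]
    clear hfz
    induction z with
    | zero => simp
    | add u v hu hv => rw [map_add, map_add, hu, hv, ← map_add, ← map_add]
    | tmul a z =>
      show red η U (algebraMap B.carrier (sect η U) (g a) * τ z) =
        red ξ U (algebraMap A.carrier (sect ξ U) a * σ z)
      rw [map_mul, map_mul, red_algebraMap, red_algebraMap, res_app]
      exact congrArg _ ((hτ z).trans (hσ z).symm)
  have key : ∀ (V : X.affineOpens) (hV : V.1 ≤ U.1), ∃! h : sect ξ V →+* sect η V,
      h.comp (resC ξ hV) = (resC η hV).comp f₀.toRingHom ∧ (red η V).comp h = red ξ V := fun V hV =>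
    exists_lift_etale_nil _ (formallyEtale_resC ξ hV) _ _ (red_surjective η V) (isNilpotent_ker_red η V) _
      (RingHom.ext fun b => by
        simp only [RingHom.comp_apply]
        rw [red_resC, red_resC]
        exact congrArg _ (hf₀ b).symm)
  choose h hh hu using key
  refine ⟨h, fun V hV a => ?_, fun V hV b => RingHom.congr_fun (hh V hV).2 b, fun {W V} hW hV b => ?_⟩
  · rw [← resC_algebraMap ξ hV]
    exact (RingHom.congr_fun (hh V hV).1 _).trans
      ((congrArg (resC η hV) (f₀.commutes a)).trans (resC_algebraMap η hV (g a)))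
  · obtain ⟨h', ⟨h1, h2⟩, -⟩ := exists_lift_etale_nil _ (formallyEtale_resC ξ hV) ((resC η hV).comp (h W hW)) _
      (red_surjective η V) (isNilpotent_ker_red η V) (red ξ V) (RingHom.ext fun b => by
        simp only [RingHom.comp_apply]
        rw [red_resC, red_resC]
        exact congrArg _ (RingHom.congr_fun (hh W hW).2 b).symm)
    obtain rfl : h' = h V (hV.trans hW) := hu V (hV.trans hW) h' ⟨RingHom.ext fun c => by
      have e1 : resC ξ (hV.trans hW) c = resC ξ hV (resC ξ hW c) :=
        (res_struct (up_mono _ hW) (up_mono _ hV) c).symm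
      have e2 : ∀ d, resC η hV (resC η hW d) = resC η (hV.trans hW) d := fun d =>
        res_struct (up_mono _ hW) (up_mono _ hV) d
      rw [RingHom.comp_apply, e1, ← RingHom.comp_apply h', h1, RingHom.comp_apply, ← RingHom.comp_apply (h W hW),
        (hh W hW).1, RingHom.comp_apply, RingHom.comp_apply, e2], h2⟩
    exact (RingHom.congr_fun h1 b).symm

end Groth.Agent.DefSm85
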