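import Groth.Agent.DefSm85.Class1
import Groth.Agent.Hilb85.Obs

/-!
Classes of extensions up to isomorphism are tuples of classes in `H¹(T)`.
-/

set_option autoImplicit false
set_option linter.style.haveILetI false
set_option linter.unusedSectionVars false
set_option backward.isDefEq.respectTransparency false
universe u

open CategoryTheory CategoryTheory.Limits AlgebraicGeometry TopologicalSpace Opposite TensorProduct
open ArtFun ArtFun.Art

attribute [-instance] CategoryTheory.catToReflQuiver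

noncomputable section

namespace Groth.Agent.DefSm85

open Groth.Agent Hilb85

variable {k : Type u} [Field k] {X : Scheme.{u}} {x : X ⟶ specPt k} {C' C : Art k k} {p : C' ⟶ C}
  {𝒳 : DefSch X x C}

/-- The extension of a deformation with an identification of its restriction. -/
def Ext.ofPair (a : Σ 𝒳' : DefSch X x C', (𝒳'.baseChange p).Iso 𝒳) : Ext p 𝒳 :=
  ⟨a.1, (Def38.Arrow.canon a.1 p).precomp a.2.symm⟩

theorem Ext.rel_iff (a b : Σ 𝒳' : DefSch X x C', (𝒳'.baseChange p).Iso 𝒳) :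
    (∃ ψ : a.1.Iso b.1, ((ψ.baseChange p).trans b.2).iso = a.2.iso) ↔
      ∃ ψ : (Ext.ofPair a).tot.Iso (Ext.ofPair b).tot,
        (Ext.ofPair a).arr.hom ≫ ψ.iso.hom = (Ext.ofPair b).arr.hom := by
  constructor
  · rintro ⟨ψ, h⟩
    refine ⟨ψ, ?_⟩
    show (a.2.iso.inv ≫ pullback.fst a.1.f (specMap p)) ≫ ψ.iso.hom = b.2.iso.inv ≫ pullback.fst b.1.f (specMap p)
    rw [Category.assoc, ← DefSch.pullMap_fst ψ.iso.hom ψ.hom_f p, Iso.inv_comp_eq, ← Category.assoc]
    refine congrArg (· ≫ pullback.fst b.1.f (specMap p)) ?_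
    rw [← h]
    exact ((Category.assoc _ _ _).trans
      ((congrArg (DefSch.pullMap ψ.iso.hom ψ.hom_f p ≫ ·) b.2.iso.hom_inv_id).trans (Category.comp_id _))).symm
  · rintro ⟨ψ₀, h₀⟩
    obtain ⟨ψ, h⟩ : ∃ ψ : a.1.Iso b.1, (a.2.iso.inv ≫ pullback.fst a.1.f (specMap p)) ≫ ψ.iso.hom =
        b.2.iso.inv ≫ pullback.fst b.1.f (specMap p) := ⟨ψ₀, h₀⟩
    refine ⟨ψ, CategoryTheory.Iso.ext ?_⟩
    show DefSch.pullMap ψ.iso.hom ψ.hom_f p ≫ b.2.iso.hom = a.2.iso.hom
    rw [← Iso.eq_comp_inv]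
    have h' : (a.2.iso.inv ≫ pullback.fst a.1.f (specMap p)) ≫ ψ.iso.hom =
        b.2.iso.inv ≫ pullback.fst b.1.f (specMap p) := h
    apply pullback.hom_ext
    · rw [DefSch.pullMap_fst, Category.assoc, ← h', Category.assoc, Iso.hom_inv_id_assoc]
    · rw [DefSch.pullMap_snd, Category.assoc, show b.2.iso.inv ≫ pullback.snd b.1.f (specMap p) = 𝒳.f from b.2.symm.hom_f]
      exact a.2.hom_f.symm

theorem Ext.exists_ofPair (E : Ext p 𝒳) :
    ∃ (a : Σ 𝒳' : DefSch X x C', (𝒳'.baseChange p).Iso 𝒳) (ψ : E.tot.Iso (Ext.ofPair a).tot),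
      E.arr.hom ≫ ψ.iso.hom = (Ext.ofPair a).arr.hom := by
  refine ⟨⟨E.tot, (Def38.Arrow.canon E.tot p).isoOf E.arr⟩, DefSch.Iso.refl _, ?_⟩
  refine (Category.comp_id _).trans ((Iso.eq_inv_comp _).2 ?_)
  exact (Def38.Arrow.canon E.tot p).isoOf_hom E.arr

/-- Tensors with the kernel in coordinates. -/
theorem nonempty_tensor_equiv {ι : Type u} [Fintype ι] {e : ι → C'.carrier}
    (he : LiftAlg.Small (RingHom.ker p.toAlgHom) (IsLocalRing.maximalIdeal C'.carrier) e)
    (hli : ∀ c : ι → k, ∑ l, c l • e l = 0 → c = 0) (M : Type u) [AddCommGroup M] [Module k M] :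
    Nonempty ((ι → M) ≃ₗ[k] M ⊗[k] ↥(RingHom.ker p.toAlgHom)) := by
  classical
  have hindep : LinearIndependent k (kerVec he) := Fintype.linearIndependent_iff.2 fun c hc l => congrFun (hli c (by
    have := congrArg (Subtype.val : ↥(RingHom.ker p.toAlgHom) → C'.carrier) hc
    simpa [kerVec] using this)) l
  have hspan : ⊤ ≤ Submodule.span k (Set.range (kerVec he)) := fun j _ => by
    obtain ⟨c, hc⟩ := Hilb85.exists_coeff he j
    refine (Submodule.mem_span_range_iff_exists_fun k).2 ⟨c, Subtype.ext ?_⟩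
    rw [hc, Submodule.coe_sum]
    exact Finset.sum_congr rfl fun l _ => (Algebra.smul_def _ _)
  let b := Module.Basis.mk hindep hspan
  exact ⟨((TensorProduct.equivFinsuppOfBasisRight (M := M) b).trans (Finsupp.linearEquivFunOnFinite k M ι)).symm⟩

variable [Smooth x] [IsSeparated x] [DCoh.HasSheafHom (Omega.sheaf x)] {ι : Type u} [Fintype ι] {e : ι → C'.carrier}

/-- Extensions up to isomorphism are tuples of classes. -/
theorem nonempty_quot_equiv (he : LiftAlg.Small (RingHom.ker p.toAlgHom) (IsLocalRing.maximalIdeal C'.carrier) e)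
    (hp : IsSemismallExt p) (E₀ : Ext p 𝒳) :
    Nonempty (Quot (fun a b : (Σ 𝒳' : DefSch X x C', (𝒳'.baseChange p).Iso 𝒳) =>
        ∃ ψ : a.1.Iso b.1, ((ψ.baseChange p).trans b.2).iso = a.2.iso) ≃ (ι → Coh.HH X (tanSheaf x) 1)) := by
  let F := fun a => (exists_isCls he hp E₀.toLoc (Ext.ofPair a).toLoc).choose
  have hF : ∀ a, IsCls e E₀.toLoc (Ext.ofPair a).toLoc (F a) := fun a => Exists.choose_spec _
  refine ⟨Equiv.ofBijective (Quot.lift F ?_) ⟨?_, ?_⟩⟩
  · intro a b hab
    obtain ⟨ψ, hψ⟩ := (Ext.rel_iff a b).1 hab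
    obtain ⟨f⟩ := exists_cHom_of_iso ψ hψ
    exact ((add_zero (F a)).symm).trans
      (isCls_unique he hp (isCls_trans he hp (hF a) (isCls_zero_of_cHom he f)) (hF b))
  · intro qa qb h
    induction qa using Quot.ind with
    | _ a =>
      induction qb using Quot.ind with
      | _ b =>
        change F a = F b at h
        obtain ⟨cl, hcl⟩ := exists_isCls he hp (Ext.ofPair a).toLoc (Ext.ofPair b).toLoc
        have h1 : F a + cl = F b := isCls_unique he hp (isCls_trans he hp (hF a) hcl) (hF b)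
        rw [← h, add_eq_left] at h1
        subst h1
        obtain ⟨f⟩ := nonempty_cHom he hp hcl
        obtain ⟨ψ, hψ⟩ := f.exists_iso hp
        exact Quot.sound ((Ext.rel_iff a b).2 ⟨ψ, hψ⟩)
  · intro cl
    obtain ⟨E, hE⟩ := exists_ext_isCls he hp E₀.toLoc cl
    obtain ⟨a, ψ, hψ⟩ := E.exists_ofPair
    obtain ⟨f⟩ := exists_cHom_of_iso ψ hψ
    refine ⟨Quot.mk _ a, ?_⟩
    show F a = cl
    exact (isCls_unique he hp (hF a) (isCls_trans he hp hE (isCls_zero_of_cHom he f))).trans (add_zero cl)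

end Groth.Agent.DefSm85
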